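import Cfsg.Agent.S3761
import Mathlib

/-!
Fixed-point-free automorphisms of order three and nonabelian groups of order 64 and 8.
-/

set_option autoImplicit false

namespace Cfsg.Agent.Lib.FpfThree

open scoped commutatorElement

universe u

/-- A nonabelian group of order eight is dihedral or quaternion. -/
theorem eight {C : Type u} [Group C] [Finite C] (h8 : Nat.card C = 8) (hne : ∃ x y : C, x * y ≠ y * x) :
    Nonempty (C ≃* DihedralGroup 4) ∨ Nonempty (C ≃* QuaternionGroup 2) := by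
  classical
  obtain ⟨p, q, hpq⟩ := hne
  obtain ⟨a, ha⟩ : ∃ a : C, orderOf a = 4 := by
    by_contra! h
    have hsq : ∀ g : C, g * g = 1 := by
      intro g
      have hd : orderOf g ∣ 2 ^ 3 := by
        rw [show 2 ^ 3 = Nat.card C by rw [h8]; norm_num]; exact orderOf_dvd_natCard g
      obtain ⟨k, hk, hk'⟩ := (Nat.dvd_prime_pow Nat.prime_two).1 hd
      interval_cases k
      · rw [(orderOf_eq_one_iff (x := g)).1 (by simpa using hk'), one_mul]
      · rw [← sq]; exact orderOf_dvd_iff_pow_eq_one.1 (by rw [hk']; norm_num)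
      · exact absurd (by simpa using hk') (h g)
      · exfalso
        haveI : IsCyclic C := isCyclic_of_orderOf_eq_card g (by rw [hk', h8]; norm_num)
        letI := IsCyclic.commGroup (α := C)
        exact hpq (mul_comm p q)
    have hinv : ∀ g : C, g⁻¹ = g := fun g => inv_eq_of_mul_eq_one_right (hsq g)
    exact hpq (by rw [← hinv (p * q), mul_inv_rev, hinv, hinv])
  have hidx : (Subgroup.zpowers a).index = 2 := by
    have := (Subgroup.zpowers a).card_mul_index
    rw [Nat.card_zpowers, ha, h8] at this; omega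
  haveI := Subgroup.normal_of_index_eq_two hidx
  obtain ⟨x, hx⟩ : ∃ x, x ∉ Subgroup.zpowers a := by
    by_contra! h
    have : Subgroup.zpowers a = ⊤ := eq_top_iff.2 fun g _ => h g
    rw [this, Subgroup.index_top] at hidx; omega
  have hall : ∀ g : C, g ∈ Subgroup.zpowers a ∨ x⁻¹ * g ∈ Subgroup.zpowers a := fun g => by
    by_cases hg : g ∈ Subgroup.zpowers a
    · exact Or.inl hg
    · refine Or.inr ((Subgroup.mul_mem_iff_of_index_two hidx).2 ⟨fun h => absurd (by simpa using h) hx, fun h => absurd h hg⟩)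
  have hcomm : x * a ≠ a * x := by
    intro h
    apply hpq
    have hgen : ∀ g : C, ∃ (i : ℤ) (j : ℕ), g = x ^ j * a ^ i := fun g => by
      rcases hall g with hg | hg
      · obtain ⟨i, hi⟩ := hg; exact ⟨i, 0, by simpa using hi.symm⟩
      · obtain ⟨i, hi⟩ := hg
        exact ⟨i, 1, by rw [pow_one, show a ^ i = x⁻¹ * g from hi, mul_inv_cancel_left]⟩
    obtain ⟨i, j, rfl⟩ := hgen p
    obtain ⟨i', j', rfl⟩ := hgen q
    have hc : Commute x a := h
    exact (((Commute.refl x).pow_pow j j').mul_right (hc.pow_left j |>.zpow_right i')).mul_left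
      (((hc.pow_left j').zpow_right i).symm.mul_right ((Commute.refl a).zpow_zpow i i'))
  have hxa : x * a * x⁻¹ = a⁻¹ := by
    obtain ⟨k, hk⟩ := Subgroup.Normal.conj_mem (inferInstance : (Subgroup.zpowers a).Normal) a (Subgroup.mem_zpowers a) x
    have hk' : a ^ k = x * a * x⁻¹ := hk
    have ho : orderOf (a ^ k) = 4 := by
      rw [hk', ← ha]
      exact MulEquiv.orderOf_eq (MulAut.conj x) a
    rw [← zpow_mod_orderOf, ha] at hk' ho
    have h0 := Int.emod_nonneg k (show ((4 : ℕ) : ℤ) ≠ 0 by norm_num)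
    have h4 := Int.emod_lt_of_pos k (show (0 : ℤ) < ((4 : ℕ) : ℤ) by norm_num)
    generalize k % ((4 : ℕ) : ℤ) = r at hk' ho h0 h4
    have ha4 : a ^ 4 = 1 := by rw [← ha]; exact pow_orderOf_eq_one a
    push_cast at h4
    interval_cases r
    · rw [zpow_zero, orderOf_one] at ho; omega
    · rw [zpow_one] at hk'
      exact absurd (by rw [eq_mul_inv_iff_mul_eq] at hk'; exact hk'.symm) hcomm
    · exfalso
      rw [zpow_ofNat, orderOf_pow, ha] at ho
      norm_num at ho
    · rw [← hk', zpow_ofNat, eq_inv_iff_mul_eq_one, ← pow_succ, ha4]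
  rcases Cfsg.Agent.S3761.dihedral_or_quaternion (n := 2) (by norm_num) (by rw [ha]; norm_num)
    (by rw [sq]; exact Subgroup.mul_self_mem_of_index_two hidx x) hxa hall (by rw [h8]; norm_num) with ⟨m, ⟨e⟩⟩ | ⟨m, ⟨e⟩⟩
  · left
    have := Nat.card_congr e.toEquiv
    rw [h8, DihedralGroup.nat_card] at this
    obtain rfl : m = 4 := by omega
    exact ⟨e⟩
  · right
    have hc := Nat.card_congr e.toEquiv
    rcases Nat.eq_zero_or_pos m with rfl | hm
    · exfalso
      haveI : Infinite (ZMod (2 * 0)) := inferInstanceAs (Infinite ℤ)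
      haveI : Infinite (QuaternionGroup 0) :=
        Infinite.of_injective (QuaternionGroup.a : ZMod (2 * 0) → _) fun i j h => by injection h
      rw [h8, Nat.card_eq_zero_of_infinite] at hc; omega
    · haveI : NeZero m := ⟨by omega⟩
      rw [h8, Nat.card_eq_fintype_card, QuaternionGroup.card] at hc
      obtain rfl : m = 2 := by omega
      exact ⟨e⟩

/-- An automorphism of order three fixing only the identity. -/
structure Fpf (T : Type u) [Group T] (ρ : MulAut T) : Prop where
  cube : ∀ y, ρ (ρ (ρ y)) = y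
  fix : ∀ y, ρ y = y → y = 1

namespace Fpf

variable {T : Type u} [Group T] [Finite T] {ρ : MulAut T} (R : Fpf T ρ)
include R

theorem prod_eq_one (x : T) : x * ρ x * ρ (ρ x) = 1 := by
  have hinj : Function.Injective fun y : T => y⁻¹ * ρ y := by
    intro a b h
    have h' : a⁻¹ * ρ a = b⁻¹ * ρ b := h
    refine mul_inv_eq_one.1 (R.fix _ ?_)
    rw [map_mul, map_inv, show ρ a = a * (b⁻¹ * ρ b) by rw [← h', mul_inv_cancel_left]]
    group
  obtain ⟨y, rfl⟩ := hinj.bijective_of_finite.2 x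
  show y⁻¹ * ρ y * ρ (y⁻¹ * ρ y) * ρ (ρ (y⁻¹ * ρ y)) = 1
  simp only [map_mul, map_inv, R.cube]
  group

theorem sq_eq (x : T) : ρ (ρ x) = (x * ρ x)⁻¹ := eq_inv_of_mul_eq_one_right (R.prod_eq_one x)

theorem comm (x : T) : x * ρ x = ρ x * x := by
  have h := R.prod_eq_one x⁻¹
  rw [map_inv, map_inv, R.sq_eq, inv_inv, mul_assoc] at h
  have h' := inv_mul_eq_one.1 h
  calc x * ρ x = ρ x * ((ρ x)⁻¹ * (x * ρ x)) := (mul_inv_cancel_left _ _).symm
    _ = ρ x * x := by rw [← h']

/-- An invariant subgroup has order congruent to one modulo three. -/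
theorem card_mod (H : Subgroup T) (hH : ∀ y ∈ H, ρ y ∈ H) : Nat.card H % 3 = 1 := by
  classical
  haveI : Fact (Nat.Prime 3) := ⟨Nat.prime_three⟩
  letI := Fintype.ofFinite H
  let f : Function.End H := fun y => ⟨ρ y, hH _ y.2⟩
  have hf : f ^ 3 ^ 1 = 1 := funext fun y => Subtype.ext (R.cube y)
  have hmod := Equiv.Perm.card_fixedPoints_modEq (p := 3) (n := 1) hf
  rw [← Nat.card_eq_fintype_card, ← Nat.card_eq_fintype_card] at hmod
  have h1 : Nat.card (Function.fixedPoints f) = 1 := by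
    rw [Nat.card_eq_one_iff_unique]
    exact ⟨⟨fun a b => Subtype.ext (Subtype.ext ((R.fix _ (congrArg Subtype.val a.2)).trans
      (R.fix _ (congrArg Subtype.val b.2)).symm))⟩, ⟨⟨1, Subtype.ext (map_one ρ)⟩⟩⟩
  rw [h1, Nat.ModEq] at hmod
  omega

theorem mem_of_diff {N : Subgroup T} (hN : ∀ y ∈ N, ρ y ∈ N) {x : T} (hx : x⁻¹ * ρ x ∈ N)
    (hc : ∀ n ∈ N, ∀ t : T, t * n = n * t) : x ∈ N := by
  let f : N → N := fun w => ⟨(w : T)⁻¹ * ρ w, mul_mem (inv_mem w.2) (hN _ w.2)⟩
  have hf : Function.Injective f := by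
    intro a b h
    have h' : (a : T)⁻¹ * ρ a = (b : T)⁻¹ * ρ b := congrArg Subtype.val h
    refine Subtype.ext (mul_inv_eq_one.1 (R.fix _ ?_))
    rw [map_mul, map_inv, show ρ (a : T) = a * ((b : T)⁻¹ * ρ b) by rw [← h', mul_inv_cancel_left]]
    group
  obtain ⟨w, hw⟩ := hf.bijective_of_finite.2 ⟨_, hx⟩
  have hw' : (w : T)⁻¹ * ρ w = x⁻¹ * ρ x := congrArg Subtype.val hw
  have hfx : ρ (x * (w : T)⁻¹) = x * (w : T)⁻¹ := by
    rw [map_mul, map_inv, show ρ x = x * ((w : T)⁻¹ * ρ w) by rw [hw', mul_inv_cancel_left]]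
    group
  rw [mul_inv_eq_one.1 (R.fix _ hfx)]
  exact w.2

end Fpf

end Cfsg.Agent.Lib.FpfThree
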