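import Cfsg.Agent.Lib.FpfThree.Basic
import Mathlib

/-!
Nonabelian groups of order 64 with a symmetric group of degree three acting, the elements of order three
fixing only the identity.
-/

set_option autoImplicit false

namespace Cfsg.Agent.Lib.FpfThree

open scoped commutatorElement

universe u

namespace Fpf

variable {T : Type u} [Group T] [Finite T] {ρ : MulAut T} (R : Fpf T ρ)
include R

/-- Structure of a nonabelian group of order 64 with such an automorphism. -/
theorem structure64 (hT : Nat.card T = 64) (hne : ∃ x y : T, x * y ≠ y * x) :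
    Nat.card (Subgroup.center T) = 4 ∧ (∀ y, y * y ∈ Subgroup.center T) ∧
      (∀ y z : T, ⁅y, z⁆ ∈ Subgroup.center T) ∧ ∀ z ∈ Subgroup.center T, z * z = 1 := by
  classical
  haveI : Fact (Nat.Prime 2) := ⟨Nat.prime_two⟩
  set Z := Subgroup.center T with hZdef
  have hP : IsPGroup 2 T := IsPGroup.of_card (n := 6) (by rw [hT]; norm_num)
  haveI : Nontrivial T := Finite.one_lt_card_iff_nontrivial.1 (by rw [hT]; norm_num)
  have hcen : ∀ {z}, z ∈ Z → ∀ t, t * z = z * t := fun hz t => Subgroup.mem_center_iff.1 hz t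
  have hinvZ : ∀ y ∈ Z, ρ y ∈ Z := fun y hy => by
    rw [Subgroup.mem_center_iff] at hy ⊢
    intro t
    obtain ⟨s, rfl⟩ := ρ.surjective t
    rw [← map_mul, hy s, map_mul]
  -- the quotient is not generated by one orbit
  have hmono : ∀ (x : T) (N : Subgroup T), Z ≤ N → x ∈ N → ρ x ∈ N →
      (∀ u v : T, u ∈ ({x, ρ x} : Set T) → v ∈ ({x, ρ x} : Set T) → u * v = v * u) → N = ⊤ →
      N ≤ Subgroup.closure ((Z : Set T) ∪ {x, ρ x}) → False := by
    intro x N _ _ _ hcom htop hle
    rw [htop, top_le_iff] at hle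
    have hcl : ∀ s ∈ ((Z : Set T) ∪ {x, ρ x}), ∀ t ∈ ((Z : Set T) ∪ {x, ρ x}), s * t = t * s := by
      intro s hs t ht
      rcases hs with hs | hs
      · exact (hcen hs t).symm
      rcases ht with ht | ht
      · exact hcen ht s
      · exact hcom s t hs ht
    have hab := Subgroup.isMulCommutative_closure hcl
    obtain ⟨y, z, hyz⟩ := hne
    exact hyz (congrArg Subtype.val (hab.is_comm.comm ⟨y, hle ▸ Subgroup.mem_top y⟩ ⟨z, hle ▸ Subgroup.mem_top z⟩))
  have hgen : ∀ x : T, Subgroup.closure ((Z : Set T) ∪ {x, ρ x}) ≠ ⊤ := fun x h =>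
    hmono x ⊤ le_top (Subgroup.mem_top _) (Subgroup.mem_top _) (by
      intro u v hu hv
      rcases hu with rfl | hu <;> rcases hv with rfl | hv
      · rfl
      · rw [Set.mem_singleton_iff.1 hv, R.comm]
      · rw [Set.mem_singleton_iff.1 hu, R.comm]
      · rw [Set.mem_singleton_iff.1 hu, Set.mem_singleton_iff.1 hv]) rfl h.ge
  have hclinv : ∀ x : T, ∀ y ∈ Subgroup.closure ((Z : Set T) ∪ {x, ρ x}),
      ρ y ∈ Subgroup.closure ((Z : Set T) ∪ {x, ρ x}) := by
    intro x y hy
    have hle : Subgroup.closure ((Z : Set T) ∪ {x, ρ x}) ≤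
        (Subgroup.closure ((Z : Set T) ∪ {x, ρ x})).comap ρ.toMonoidHom := by
      refine (Subgroup.closure_le _).2 ?_
      rintro s (hs | rfl | rfl)
      · exact Subgroup.subset_closure (Or.inl (hinvZ s hs))
      · exact Subgroup.subset_closure (Or.inr (Or.inr rfl))
      · show ρ (ρ x) ∈ Subgroup.closure ((Z : Set T) ∪ {x, ρ x})
        rw [R.sq_eq]
        exact inv_mem (mul_mem (Subgroup.subset_closure (Or.inr (Or.inl rfl)))
          (Subgroup.subset_closure (Or.inr (Or.inr rfl))))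
    exact hle hy
  -- an invariant subgroup containing the centre has index 1, 4, 16
  have hsize : ∀ N : Subgroup T, (∀ y ∈ N, ρ y ∈ N) → Nat.card N = 1 ∨ Nat.card N = 4 ∨ Nat.card N = 16 ∨
      Nat.card N = 64 := fun N hN => by
    obtain ⟨k, hk, hk'⟩ := (Nat.dvd_prime_pow Nat.prime_two).1
      (show Nat.card N ∣ 2 ^ 6 by rw [show (2 : ℕ) ^ 6 = Nat.card T by rw [hT]; norm_num]; exact N.card_subgroup_dvd_card)
    have := R.card_mod N hN
    rw [hk'] at this ⊢
    interval_cases k <;> first | omega | (norm_num at this)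
  have hZ4 : Nat.card Z = 4 := by
    have hZne : Nat.card Z ≠ 1 := fun h => by
      haveI := hP.center_nontrivial
      exact absurd h (Finite.one_lt_card_iff_nontrivial.2 inferInstance).ne'
    have hZtop : Z ≠ ⊤ := fun h => by
      obtain ⟨y, z, hyz⟩ := hne
      exact hyz (hcen (h ▸ Subgroup.mem_top z) y)
    rcases hsize Z hinvZ with h | h | h | h
    · exact absurd h hZne
    · exact h
    · exfalso
      obtain ⟨x, hx⟩ : ∃ x, x ∉ Z := by
        by_contra! hh; exact hZtop (eq_top_iff.2 fun t _ => hh t)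
      set N := Subgroup.closure ((Z : Set T) ∪ {x, ρ x})
      have hZN : Z ≤ N := fun s hs => Subgroup.subset_closure (Or.inl hs)
      have hxN : x ∈ N := Subgroup.subset_closure (Or.inr (Or.inl rfl))
      have hlt : Nat.card Z < Nat.card N := (Subgroup.card_le_of_le hZN).lt_of_ne fun e =>
        hx ((Subgroup.eq_of_le_of_card_ge hZN e.ge) ▸ hxN)
      rcases hsize N (hclinv x) with h' | h' | h' | h' <;> try omega
      exact hgen x (Subgroup.eq_top_of_card_eq N (by rw [h', hT]))
    · exact absurd (Subgroup.eq_top_of_card_eq Z (by rw [h, hT])) hZtop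
  have hZ2 : ∀ z ∈ Z, z * z = 1 := by
    intro z hz
    by_contra h
    let Q : Subgroup T :=
      { carrier := {w | w ∈ Z ∧ w * w = 1}
        one_mem' := ⟨one_mem _, one_mul 1⟩
        mul_mem' := fun {a b} ha hb => ⟨mul_mem ha.1 hb.1, by
          rw [mul_assoc, ← mul_assoc b, hcen ha.1 b, mul_assoc a b, hb.2, mul_one, ha.2]⟩
        inv_mem' := fun {a} ha => ⟨inv_mem ha.1, by rw [← mul_inv_rev, ha.2, inv_one]⟩ }
    have hQZ : Q ≤ Z := fun w hw => hw.1
    have hQ := hsize Q fun y hy => ⟨hinvZ y hy.1, by rw [← map_mul, hy.2, map_one]⟩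
    have hlt : Nat.card Q < 4 := hZ4 ▸ (Subgroup.card_le_of_le hQZ).lt_of_ne fun e =>
      h ((Subgroup.eq_of_le_of_card_ge hQZ e.ge).ge hz).2
    obtain ⟨w, hw⟩ := exists_prime_orderOf_dvd_card' (G := Z) 2 (by rw [hZ4]; norm_num)
    have hmem : (w : T) ∈ Q := ⟨w.2, by
      have := pow_orderOf_eq_one (w : T)
      rwa [Subgroup.orderOf_coe, hw, sq] at this⟩
    have hQ1 : Nat.card Q ≠ 1 := fun h1 => by
      have hb := Subgroup.eq_bot_of_card_eq Q h1
      rw [hb, Subgroup.mem_bot] at hmem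
      rw [show w = 1 from Subtype.ext hmem, orderOf_one] at hw
      omega
    omega
  have hW : Nat.card (T ⧸ Z) = 16 := by
    have := Subgroup.card_eq_card_quotient_mul_card_subgroup Z
    rw [hT, hZ4] at this; omega
  -- commutators are central
  have hcm : ∀ y z : T, ⁅y, z⁆ ∈ Z := by
    haveI : Nontrivial (T ⧸ Z) := Finite.one_lt_card_iff_nontrivial.1 (by rw [hW]; norm_num)
    let Z2 : Subgroup T := (Subgroup.center (T ⧸ Z)).comap (QuotientGroup.mk' Z)
    have hZ2' : ∀ y, y ∈ Z2 ↔ ∀ t : T, ⁅t, y⁆ ∈ Z := fun y => by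
      rw [Subgroup.mem_comap, Subgroup.mem_center_iff]
      constructor
      · intro h t
        rw [← QuotientGroup.eq_one_iff]
        exact commutatorElement_eq_one_iff_mul_comm.2 (h (t : T ⧸ Z))
      · intro h t
        induction t using QuotientGroup.induction_on with
        | _ t =>
          exact commutatorElement_eq_one_iff_mul_comm.1
            ((QuotientGroup.eq_one_iff (⁅t, y⁆)).2 (h t))
    have hinv2 : ∀ y ∈ Z2, ρ y ∈ Z2 := fun y hy => by
      rw [hZ2'] at hy ⊢
      intro t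
      obtain ⟨s, rfl⟩ := ρ.surjective t
      rw [← map_commutatorElement]; exact hinvZ _ (hy s)
    have hlt : 4 < Nat.card Z2 := by
      haveI := (hP.to_quotient Z).center_nontrivial
      have hle : Z ≤ Z2 := fun z hz => (hZ2' z).2 fun t => by
        rw [commutatorElement_eq_one_iff_mul_comm.2 (hcen hz t)]; exact one_mem _
      rw [← hZ4]
      refine (Subgroup.card_le_of_le hle).lt_of_ne fun e => ?_
      obtain ⟨⟨w, hw⟩, hw1⟩ := exists_ne (1 : Subgroup.center (T ⧸ Z))
      obtain ⟨t, rfl⟩ := QuotientGroup.mk'_surjective Z w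
      exact hw1 (Subtype.ext ((QuotientGroup.eq_one_iff t).2 ((Subgroup.eq_of_le_of_card_ge hle e.ge).ge hw)))
    have hZ2top : Z2 = ⊤ := by
      rcases hsize Z2 hinv2 with h | h | h | h <;> try omega
      · exfalso
        obtain ⟨x, hx⟩ : ∃ x, x ∉ Z2 := by
          by_contra! hh
          rw [show Z2 = ⊤ from eq_top_iff.2 fun t _ => hh t, Subgroup.card_top, hT] at h; omega
        let M : Subgroup T := Subgroup.closure ((Z2 : Set T) ∪ {x, ρ x})
        have hZ2M : Z2 ≤ M := fun s hs => Subgroup.subset_closure (Or.inl hs)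
        have hxM : x ∈ M := Subgroup.subset_closure (Or.inr (Or.inl rfl))
        have hρxM : ρ x ∈ M := Subgroup.subset_closure (Or.inr (Or.inr rfl))
        have hMinv : ∀ y ∈ M, ρ y ∈ M := fun y hy => by
          have hle : M ≤ M.comap ρ.toMonoidHom := (Subgroup.closure_le _).2 (by
            rintro s (hs | rfl | rfl)
            · exact hZ2M (hinv2 s hs)
            · exact hρxM
            · show ρ (ρ x) ∈ M
              rw [R.sq_eq]; exact inv_mem (mul_mem hxM hρxM))
          exact hle hy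
        have hlt' : 16 < Nat.card M := h ▸ (Subgroup.card_le_of_le hZ2M).lt_of_ne fun e =>
          hx ((Subgroup.eq_of_le_of_card_ge hZ2M e.ge).ge hxM)
        have hMtop : M = ⊤ := by
          rcases hsize M hMinv with h' | h' | h' | h' <;> try omega
          exact Subgroup.eq_top_of_card_eq M (by rw [h', hT])
        -- then all commutators are central
        refine hx ((hZ2' x).2 fun t => ?_)
        have hle : M ≤ ((Subgroup.zpowers (x : T ⧸ Z) ⊔ ⊥) ⊔ ⊤).comap (QuotientGroup.mk' Z) := by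
          intro s _; exact Subgroup.mem_sup_right (Subgroup.mem_top _)
        let Cx : Subgroup T := (Subgroup.centralizer ({(x : T ⧸ Z)} : Set (T ⧸ Z))).comap (QuotientGroup.mk' Z)
        have hCx : ∀ s, s ∈ Cx ↔ (s : T ⧸ Z) * x = x * s := fun s => by
          rw [Subgroup.mem_comap, Subgroup.mem_centralizer_singleton_iff]; rfl
        have hMC : M ≤ Cx := (Subgroup.closure_le _).2 (by
          rintro s (hs | rfl | rfl)
          · exact (hCx s).2 (Subgroup.mem_center_iff.1 hs _).symm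
          · exact (hCx _).2 rfl
          · refine (hCx _).2 ?_
            rw [← QuotientGroup.mk_mul, ← QuotientGroup.mk_mul, R.comm])
        have ht : t ∈ Cx := hMC (hMtop ▸ Subgroup.mem_top t)
        rw [← QuotientGroup.eq_one_iff]
        exact commutatorElement_eq_one_iff_mul_comm.2 ((hCx t).1 ht)
      · exact Subgroup.eq_top_of_card_eq Z2 (by rw [h, hT])
    intro y z
    exact (hZ2' z).1 (hZ2top ▸ Subgroup.mem_top z) y
  -- squares are central
  refine ⟨hZ4, fun y => ?_, hcm, hZ2⟩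
  by_contra hy
  haveI : IsMulCommutative (T ⧸ Z) := ⟨⟨fun a b => QuotientGroup.induction_on a fun a =>
    QuotientGroup.induction_on b fun b => commutatorElement_eq_one_iff_mul_comm.1
      ((QuotientGroup.eq_one_iff ⁅a, b⁆).2 (hcm a b))⟩⟩
  let N := Subgroup.closure ((Z : Set T) ∪ {y, ρ y})
  have hZN : Z ≤ N := fun s hs => Subgroup.subset_closure (Or.inl hs)
  have hyN : y ∈ N := Subgroup.subset_closure (Or.inr (Or.inl rfl))
  rcases hsize N (hclinv y) with h | h | h | h
  · have := Subgroup.card_le_of_le hZN; omega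
  · have e := Subgroup.eq_of_le_of_card_ge hZN (by omega)
    exact hy (e.ge (mul_mem hyN hyN))
  · -- image of order four with an element of order four
    have hy1 : y ∉ Z := fun h => hy (mul_mem h h)
    let W := N.map (QuotientGroup.mk' Z)
    have hWc : Nat.card W = 4 := by
      let f := (QuotientGroup.mk' Z).comp N.subtype
      have hker : f.ker = Z.subgroupOf N := by
        ext w
        simp [f, Subgroup.mem_subgroupOf, QuotientGroup.eq_one_iff]
      have h1 := f.ker.card_mul_index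
      rw [Subgroup.index_ker, MonoidHom.range_eq_map, ← Subgroup.map_map, ← MonoidHom.range_eq_map,
        Subgroup.range_subtype, hker, Nat.card_congr (Subgroup.subgroupOfEquivOfLe hZN).toEquiv, hZ4, h] at h1
      show Nat.card (N.map (QuotientGroup.mk' Z)) = 4
      omega
    have hw : orderOf (y : T ⧸ Z) = 4 := orderOf_eq_prime_pow (p := 2) (n := 1)
      (by rw [pow_one, sq, ← QuotientGroup.mk_mul, QuotientGroup.eq_one_iff]; exact hy) (by
        have hmem : (y : T ⧸ Z) ∈ W := ⟨y, hyN, rfl⟩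
        have := orderOf_dvd_natCard (⟨_, hmem⟩ : W)
        rw [hWc, ← Subgroup.orderOf_coe] at this
        exact orderOf_dvd_iff_pow_eq_one.1 this)
    have hWeq : Subgroup.zpowers (y : T ⧸ Z) = W :=
      Subgroup.eq_of_le_of_card_ge (Subgroup.zpowers_le.2 ⟨y, hyN, rfl⟩) (by rw [hWc, Nat.card_zpowers, hw])
    obtain ⟨k, hk⟩ := (hWeq.ge ⟨ρ y, hclinv y y hyN, rfl⟩ : ((ρ y : T) : T ⧸ Z) ∈ Subgroup.zpowers (y : T ⧸ Z))
    have hk' : ((y ^ k : T) : T ⧸ Z) = ((ρ y : T) : T ⧸ Z) := hk
    have h2 : y * y ∈ Z := by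
      -- the involution of a cyclic group of order four is fixed
      have hd : (y * y)⁻¹ * ρ (y * y) ∈ Z := by
        rw [← QuotientGroup.eq_one_iff, QuotientGroup.mk_mul, QuotientGroup.mk_inv, map_mul,
          QuotientGroup.mk_mul, QuotientGroup.mk_mul, ← hk']
        have hodd : Odd k := by
          rw [← Int.not_even_iff_odd]
          rintro ⟨j, rfl⟩
          have h4 : ((ρ y : T) : T ⧸ Z) * ((ρ y : T) : T ⧸ Z) = 1 := by
            rw [← hk', QuotientGroup.mk_zpow, ← zpow_add, show j + j + (j + j) = ((4 : ℕ) : ℤ) * j by push_cast; ring,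
              zpow_mul, zpow_natCast, ← hw, pow_orderOf_eq_one, one_zpow]
          rw [← QuotientGroup.mk_mul, QuotientGroup.eq_one_iff, ← map_mul] at h4
          apply hy
          have := hinvZ _ (hinvZ _ h4)
          rwa [R.cube] at this
        obtain ⟨j, rfl⟩ := hodd
        rw [QuotientGroup.mk_zpow, ← zpow_add, ← sq, show 2 * j + 1 + (2 * j + 1) = ((4 : ℕ) : ℤ) * j + ((2 : ℕ) : ℤ) by push_cast; ring,
          zpow_add, zpow_mul, zpow_natCast, zpow_natCast, ← hw, pow_orderOf_eq_one, one_zpow, one_mul, inv_mul_cancel]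
      exact R.mem_of_diff hinvZ hd fun n hn t => hcen hn t
    exact hy h2
  · exact hgen y (Subgroup.eq_top_of_card_eq N (by rw [h, hT]))

/-- Commutators of a pair and the images. -/
theorem pair (hcm : ∀ y z : T, ⁅y, z⁆ ∈ Subgroup.center T) (hZ2 : ∀ z ∈ Subgroup.center T, z * z = 1) (a b : T) :
    ⁅ρ a, ρ b⁆ = ρ ⁅a, b⁆ ∧ ⁅a, ρ b⁆ = ⁅a, b⁆ * ρ ⁅a, b⁆ ∧ ⁅ρ a, b⁆ = ⁅a, b⁆ * ρ ⁅a, b⁆ := by
  have hcen : ∀ {z}, z ∈ Subgroup.center T → ∀ t, t * z = z * t := fun hz t => Subgroup.mem_center_iff.1 hz t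
  have hinv : ∀ z ∈ Subgroup.center T, z⁻¹ = z := fun z hz => inv_eq_of_mul_eq_one_right (hZ2 z hz)
  have hbl : ∀ x y z : T, ⁅x * y, z⁆ = ⁅x, z⁆ * ⁅y, z⁆ := fun x y z => by
    calc ⁅x * y, z⁆ = x * ⁅y, z⁆ * x⁻¹ * ⁅x, z⁆ := by simp only [commutatorElement_def]; group
      _ = ⁅y, z⁆ * ⁅x, z⁆ := by rw [hcen (hcm y z) x, mul_inv_cancel_right]
      _ = _ := (hcen (hcm y z) _).symm
  have hsym : ∀ x y : T, ⁅y, x⁆ = ⁅x, y⁆ := fun x y => by rw [← commutatorElement_inv, hinv _ (hcm x y)]
  have hinv' : ∀ x z : T, ⁅x⁻¹, z⁆ = ⁅x, z⁆ := fun x z => by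
    have h := hbl x⁻¹ x z
    rw [inv_mul_cancel, commutatorElement_one_left] at h
    rw [eq_inv_of_mul_eq_one_left h.symm, hinv _ (hcm x z)]
  have hρρ : ∀ x z : T, ⁅ρ (ρ x), z⁆ = ⁅x, z⁆ * ⁅ρ x, z⁆ := fun x z => by rw [R.sq_eq, hinv', hbl]
  have h1 : ⁅ρ a, ρ b⁆ = ρ ⁅a, b⁆ := (map_commutatorElement ρ a b).symm
  set c := ⁅a, b⁆ with hc
  set γ := ⁅a, ρ b⁆ with hγ
  have hcZ : c ∈ Subgroup.center T := hcm a b
  have hγZ : γ ∈ Subgroup.center T := hcm a (ρ b)
  have hZρ : ∀ w ∈ Subgroup.center T, ρ (ρ w) = w * ρ w := fun w hw => by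
    rw [R.sq_eq, mul_inv_rev, hinv w hw]
    have hρw : ρ w ∈ Subgroup.center T := by
      rw [Subgroup.mem_center_iff] at hw ⊢
      intro t
      obtain ⟨s, rfl⟩ := ρ.surjective t
      rw [← map_mul, hw s, map_mul]
    rw [hinv _ hρw, hcen hw]
  have e1 : ⁅ρ a, b⁆ = ρ c * ρ γ := by
    rw [← map_mul, show c * γ = ⁅a, ρ (ρ b)⁆ by rw [hsym (ρ (ρ b)), hρρ, hsym a b, hsym a (ρ b)],
      map_commutatorElement, R.cube]
  have e2 : c * ⁅ρ a, b⁆ = ρ (ρ γ) := by
    rw [hγ, map_commutatorElement, map_commutatorElement, R.cube, hρρ]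
  rw [e1, hZρ γ hγZ, ← mul_assoc] at e2
  have hγv : γ = c * ρ c := (mul_right_cancel e2).symm
  refine ⟨h1, hγv, ?_⟩
  rw [e1, ← map_mul, hγv, ← mul_assoc, hZ2 c hcZ, one_mul, hZρ c hcZ]

end Fpf

end Cfsg.Agent.Lib.FpfThree
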