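import Cfsg.Agent.Lib.FpfThree.Basic
import Cfsg.Agent.Lib.FpfThree.SixtyFour
import Mathlib

/-!
The group of order 64 with an automorphism of order three fixing only the identity and all involutions
central is unique.
-/

set_option autoImplicit false

namespace Cfsg.Agent.Lib.FpfThree

open scoped commutatorElement

universe u v

/-- Exponents of the central part. -/
abbrev Zx := Fin 2 × Fin 2

/-- Normal forms. -/
abbrev Six := Fin 2 × Fin 2 × Fin 2 × Fin 2 × Zx

/-- A multiple of an exponent. -/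
def sc (a : Fin 2) (p : Zx) : Zx := if a = 0 then (0, 0) else p

/-- Left multiplication by the four generators. -/
def lact (g : Fin 4) (e : Six) : Six :=
  match g, e with
  | 0, (a, b, c, d, z) => (a + 1, b, c, d, sc a (1, 0) + z)
  | 1, (a, b, c, d, z) => (a, b + 1, c, d, sc b (0, 1) + z)
  | 2, (a, b, c, d, z) => (a, b, c + 1, d, sc a (1, 0) + sc b (1, 1) + sc c (0, 1) + z)
  | 3, (a, b, c, d, z) => (a, b, c, d + 1, sc a (1, 1) + sc b (0, 1) + sc d (1, 1) + z)

/-- The relations between the generators and the central exponent map. -/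
structure Gens {T : Type u} [Group T] (g : Fin 4 → T) (E : Zx → T) : Prop where
  gen : Subgroup.closure (Set.range g) = ⊤
  emul : ∀ p q, E p * E q = E (p + q)
  ecen : ∀ p (y : T), E p * y = y * E p
  s0 : g 0 * g 0 = E (1, 0)
  s1 : g 1 * g 1 = E (0, 1)
  s2 : g 2 * g 2 = E (0, 1)
  s3 : g 3 * g 3 = E (1, 1)
  c10 : g 1 * g 0 = g 0 * g 1
  c20 : g 2 * g 0 = g 0 * g 2 * E (1, 0)
  c21 : g 2 * g 1 = g 1 * g 2 * E (1, 1)
  c30 : g 3 * g 0 = g 0 * g 3 * E (1, 1)
  c31 : g 3 * g 1 = g 1 * g 3 * E (0, 1)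
  c32 : g 3 * g 2 = g 2 * g 3

variable {T : Type u} [Group T] {g : Fin 4 → T} {E : Zx → T}

/-- Value of a normal form. -/
def six (g : Fin 4 → T) (E : Zx → T) (e : Six) : T :=
  g 0 ^ e.1.val * (g 1 ^ e.2.1.val * (g 2 ^ e.2.2.1.val * (g 3 ^ e.2.2.2.1.val * E e.2.2.2.2)))

theorem Gens.e_zero (h : Gens g E) : E (0, 0) = 1 := by
  have := h.emul (0, 0) (0, 0)
  simpa using this

theorem Gens.six_lact (h : Gens g E) (i : Fin 4) (e : Six) :
    six g E (lact i e) = g i * six g E e := by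
  obtain ⟨a, b, c, d, z⟩ := e
  have hsq : ∀ (j : Fin 4) (p : Zx) (a : Fin 2) (r : T), g j * g j = E p →
      g j * (g j ^ a.val * r) = g j ^ (a + 1).val * (E (sc a p) * r) := by
    intro j p a r hj
    fin_cases a
    · simp [sc, h.e_zero]
    · simp [sc, ← mul_assoc, hj]
  have hmv : ∀ (j k : Fin 4) (p : Zx) (a : Fin 2) (r : T), g j * g k = g k * g j * E p →
      g j * (g k ^ a.val * r) = g k ^ a.val * (g j * (E (sc a p) * r)) := by
    intro j k p a r hj
    fin_cases a
    · simp [sc, h.e_zero]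
    · simp [sc, ← mul_assoc, hj]
  have h01 : g 1 * g 0 = g 0 * g 1 * E (0, 0) := by rw [h.e_zero, mul_one]; exact h.c10
  have h23 : g 3 * g 2 = g 2 * g 3 * E (0, 0) := by rw [h.e_zero, mul_one]; exact h.c32
  have hsc : ∀ x : Fin 2, sc x (0, 0) = (0 : Zx) := fun x => by fin_cases x <;> rfl
  have hE : ∀ (p : Zx) (j : Fin 4) (n : ℕ) (r : T), E p * (g j ^ n * r) = g j ^ n * (E p * r) :=
    fun p j n r => by rw [← mul_assoc, h.ecen, mul_assoc]
  fin_cases i
  · simp only [six, lact, Fin.zero_eta, Fin.isValue]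
    rw [hsq 0 (1, 0) a _ h.s0]
    simp only [hE, h.emul]
  · simp only [six, lact, Fin.mk_one, Fin.isValue]
    rw [hmv 1 0 (0, 0) a _ h01]
    simp only [hsc, hE, h.emul, zero_add]
    rw [hsq 1 (0, 1) b _ h.s1]
    simp only [hE, h.emul]
  · simp only [six, lact, Fin.reduceFinMk, Fin.isValue]
    rw [hmv 2 0 (1, 0) a _ h.c20]
    simp only [hE, h.emul]
    rw [hmv 2 1 (1, 1) b _ h.c21]
    simp only [hE, h.emul]
    rw [hsq 2 (0, 1) c _ h.s2]
    simp only [hE, h.emul]
    congr 4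
    simp [add_comm, add_left_comm, add_assoc]
  · simp only [six, lact, Fin.reduceFinMk, Fin.isValue]
    rw [hmv 3 0 (1, 1) a _ h.c30]
    simp only [hE, h.emul]
    rw [hmv 3 1 (0, 1) b _ h.c31]
    simp only [hE, h.emul]
    rw [hmv 3 2 (0, 0) c _ h23]
    simp only [hsc, hE, h.emul, zero_add]
    rw [hsq 3 (1, 1) d _ h.s3]
    simp only [hE, h.emul]
    congr 5
    simp [add_comm, add_left_comm, add_assoc]

theorem Gens.surjective [Finite T] (h : Gens g E) : Function.Surjective (six g E) := by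
  open Pointwise in
  have hst : Subgroup.closure (Set.range g) ≤ MulAction.stabilizer T (Set.range (six g E)) := by
    rw [Subgroup.closure_le]
    rintro _ ⟨i, rfl⟩
    rw [SetLike.mem_coe, MulAction.mem_stabilizer_iff]
    refine Set.eq_of_subset_of_ncard_le ?_ (by rw [Set.ncard_smul_set]) (Set.toFinite _)
    rintro _ ⟨_, ⟨e, rfl⟩, rfl⟩
    exact ⟨lact i e, h.six_lact i e⟩
  intro y
  open Pointwise in
  have hy : y ∈ MulAction.stabilizer T (Set.range (six g E)) := hst (by rw [h.gen]; trivial)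
  rw [MulAction.mem_stabilizer_iff] at hy
  open Pointwise in
  have : y • (1 : T) ∈ y • Set.range (six g E) :=
    Set.smul_mem_smul_set ⟨(0, 0, 0, 0, (0, 0)), by simp [six, h.e_zero]⟩
  rw [hy] at this
  simpa using this

theorem gens_iso {T : Type u} [Group T] [Finite T] {g : Fin 4 → T} {E : Zx → T} (h : Gens g E)
    (hT : Nat.card T = 64) {T' : Type v} [Group T'] [Finite T'] {g' : Fin 4 → T'} {E' : Zx → T'}
    (h' : Gens g' E') (hT' : Nat.card T' = 64) : Nonempty (T ≃* T') := by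
  have b1 : Function.Bijective (six g E) := h.surjective.bijective_of_nat_card_le (by simp [hT])
  have b2 : Function.Bijective (six g' E') := h'.surjective.bijective_of_nat_card_le (by simp [hT'])
  let f := Equiv.ofBijective _ b1
  let f' := Equiv.ofBijective _ b2
  let e : T ≃ T' := f.symm.trans f'
  have hgen_mul : ∀ (i : Fin 4) (y : T), e (g i * y) = g' i * e y := by
    intro i y
    obtain ⟨p, rfl⟩ := f.surjective y
    have h1 : g i * f p = f (lact i p) := (h.six_lact i p).symm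
    simp only [h1, e, Equiv.trans_apply, Equiv.symm_apply_apply]
    exact h'.six_lact i p
  have he1 : e 1 = 1 := by
    have h1 : f (0, 0, 0, 0, (0, 0)) = 1 := by simp [f, six, h.e_zero]
    rw [← h1]
    simp [e, f', six, h'.e_zero]
  have key : ∀ x : T, ∀ y, e (x * y) = e x * e y := by
    intro x
    have hx : x ∈ Subgroup.closure (Set.range g) := by rw [h.gen]; trivial
    refine Subgroup.closure_induction (p := fun x _ => ∀ y, e (x * y) = e x * e y) ?_ ?_ ?_ ?_ hx
    · rintro _ ⟨i, rfl⟩ y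
      conv_rhs => rw [← mul_one (g i), hgen_mul, he1, mul_one]
      exact hgen_mul i y
    · intro y; rw [one_mul, he1, one_mul]
    · intro a b _ _ ha hb' y; rw [mul_assoc, ha, hb', ha b, mul_assoc]
    · intro a _ ha y
      have e1 := ha (a⁻¹ * y)
      have e2 := ha a⁻¹
      rw [mul_inv_cancel_left] at e1
      rw [mul_inv_cancel, he1] at e2
      rw [e1, ← inv_eq_of_mul_eq_one_right e2.symm, inv_mul_cancel_left]
  exact ⟨{ e with map_mul' := key }⟩

/-- The generators exist. -/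
theorem exists_gens {T : Type u} [Group T] [Finite T] (hT : Nat.card T = 64)
    (hne : ∃ a b : T, a * b ≠ b * a) {σ : MulAut T} (R : Fpf T σ)
    (honly : ∀ y : T, y * y = 1 → y ∈ Subgroup.center T) : ∃ g E, Gens (T := T) g E := by
  classical
  obtain ⟨hZ4, hsqZ, hcm, hZ2⟩ := R.structure64 hT hne
  set Z := Subgroup.center T with hZdef
  have hcen : ∀ {z}, z ∈ Z → ∀ t, t * z = z * t := fun hz t => Subgroup.mem_center_iff.1 hz t
  have hinv : ∀ z ∈ Z, z⁻¹ = z := fun z hz => inv_eq_of_mul_eq_one_right (hZ2 z hz)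
  have hσZ : ∀ y ∈ Z, σ y ∈ Z := fun y hy => by
    rw [hZdef, Subgroup.mem_center_iff] at hy ⊢
    intro t
    obtain ⟨s, rfl⟩ := σ.surjective t
    rw [← map_mul, hy s, map_mul]
  obtain ⟨A, hAZ⟩ : ∃ A, A ∉ Z := by
    by_contra! h
    obtain ⟨a, b, hab⟩ := hne
    exact hab (hcen (h b) a)
  set u := A * A with hu
  have huZ : u ∈ Z := hsqZ A
  have hu1 : u ≠ 1 := fun h => hAZ (honly A h)
  set v := σ u with hv
  have hvZ : v ∈ Z := hσZ u huZ
  have hv1 : v ≠ 1 := fun h => hu1 (σ.injective (h.trans (map_one σ).symm))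
  have hvu : v ≠ u := fun h => hu1 (R.fix u h)
  have huv1 : u * v ≠ 1 := fun h => hvu (by rw [← inv_eq_of_mul_eq_one_right h, hinv u huZ])
  have hσv : σ v = u * v := by
    rw [hv, R.sq_eq, mul_inv_rev, ← hv, hinv v hvZ, hinv u huZ, hcen huZ v]
  have hall : ∀ w ∈ Z, w = 1 ∨ w = u ∨ w = v ∨ w = u * v := by
    have hf : Function.Bijective
        (![1, ⟨u, huZ⟩, ⟨v, hvZ⟩, ⟨u * v, mul_mem huZ hvZ⟩] : Fin 4 → Z) := by
      refine (Nat.bijective_iff_injective_and_card _).2 ⟨fun i j h => ?_, by rw [Nat.card_fin, hZ4]⟩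
      have e1 : u * v ≠ u := fun h => hv1 (mul_eq_left.1 h)
      have e2 : u * v ≠ v := fun h => hu1 (mul_eq_right.1 h)
      fin_cases i <;> fin_cases j <;>
        first | rfl | (exfalso; simp [Subtype.ext_iff, hu1, hu1.symm, hv1, hv1.symm, hvu, hvu.symm, huv1, huv1.symm, e1, e1.symm, e2, e2.symm] at h)
    intro w hw
    obtain ⟨i, hi⟩ := hf.2 ⟨w, hw⟩
    have := congrArg Subtype.val hi
    fin_cases i <;> simp at this <;> simp [← this]
  have hp : ∀ a b : T, ⁅σ a, σ b⁆ = σ ⁅a, b⁆ ∧ ⁅a, σ b⁆ = ⁅a, b⁆ * σ ⁅a, b⁆ ∧ ⁅σ a, b⁆ = ⁅a, b⁆ * σ ⁅a, b⁆ :=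
    fun a b => R.pair hcm hZ2 a b
  -- the second pair
  obtain ⟨B, hAB⟩ : ∃ B : T, ⁅A, B⁆ = u := by
    obtain ⟨B₀, hB₀⟩ : ∃ B₀ : T, ⁅A, B₀⁆ ≠ 1 := by
      by_contra! h
      exact hAZ (Subgroup.mem_center_iff.2 fun t => (commutatorElement_eq_one_iff_mul_comm.1 (h t)).symm)
    rcases hall _ (hcm A B₀) with h | h | h | h
    · exact absurd h hB₀
    · exact ⟨B₀, h⟩
    · refine ⟨σ B₀, ?_⟩
      rw [(hp A B₀).2.1, h, hσv, hcen hvZ u, ← mul_assoc, hZ2 v hvZ, one_mul]
    · refine ⟨σ (σ B₀), ?_⟩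
      rw [(hp A (σ B₀)).2.1, (hp A B₀).2.1, h, map_mul σ u v, ← hv, hσv]
      have e : u * v * (v * (u * v)) = v := by
        rw [← mul_assoc, mul_assoc u v v, hZ2 v hvZ, mul_one, ← mul_assoc, hZ2 u huZ, one_mul]
      rw [e, hσv, ← mul_assoc, hcen huZ v, mul_assoc, hZ2 v hvZ, mul_one]
  have hσA2 : σ A * σ A = v := by rw [← map_mul, ← hu, hv]
  have hsq : ∀ x y : T, x * y * (x * y) = x * x * ⁅x, y⁆ * (y * y) := fun x y => by
    have h1 : ⁅y, x⁆ = ⁅x, y⁆ := by rw [← commutatorElement_inv, hinv _ (hcm x y)]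
    calc x * y * (x * y) = x * (⁅y, x⁆ * (x * y)) * y := by simp only [commutatorElement_def]; group
      _ = x * ((x * y) * ⁅y, x⁆) * y := by rw [hcen (hcm y x) (x * y)]
      _ = x * x * (y * ⁅y, x⁆) * y := by group
      _ = x * x * (⁅x, y⁆ * y) * y := by rw [hcen (hcm y x) y, h1]
      _ = _ := by group
  have hAσA : ⁅A, σ A⁆ = 1 := commutatorElement_eq_one_iff_mul_comm.2 (R.comm A)
  have hBσA : ⁅B, σ A⁆ = u * v := by
    rw [(hp B A).2.1, show ⁅B, A⁆ = u by rw [← commutatorElement_inv, hAB, hinv u huZ], hv]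
  obtain ⟨B, hAB, hBB⟩ : ∃ B : T, ⁅A, B⁆ = u ∧ B * B = v := by
    rcases hall _ (hsqZ B) with h | h | h | h
    · exact absurd (hcen (honly B h) A) (fun e => hu1 (by
        rw [← hAB, commutatorElement_eq_one_iff_mul_comm.2 e]))
    · exfalso
      have h1 : B * σ A * (B * σ A) = 1 := by
        rw [hsq, h, hσA2, hBσA, ← mul_assoc, hZ2 u huZ, one_mul, hZ2 v hvZ]
      have h2 := hcen (honly _ h1) A
      refine hu1 ?_
      rw [← hAB]
      have e : ⁅A, B * σ A⁆ = ⁅A, B⁆ * (B * ⁅A, σ A⁆ * B⁻¹) := by simp only [commutatorElement_def]; group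
      rw [commutatorElement_eq_one_iff_mul_comm.2 h2, hAσA, mul_one, mul_inv_cancel, mul_one] at e
      exact e.symm
    · exact ⟨B, hAB, h⟩
    · refine ⟨B * σ A, ?_, ?_⟩
      · rw [show ⁅A, B * σ A⁆ = ⁅A, B⁆ * (B * ⁅A, σ A⁆ * B⁻¹) by simp only [commutatorElement_def]; group,
          hAσA, mul_one, mul_inv_cancel, mul_one, hAB]
      · rw [hsq, h, hσA2, hBσA, hZ2 _ (mul_mem huZ hvZ), one_mul]
  let g : Fin 4 → T := ![A, σ A, B, σ B]
  let E : Zx → T := fun p => u ^ p.1.val * v ^ p.2.val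
  have hg0 : g 0 = A := rfl
  have hg1 : g 1 = σ A := rfl
  have hg2 : g 2 = B := rfl
  have hg3 : g 3 = σ B := rfl
  have hE10 : E (1, 0) = u := by simp [E]
  have hE01 : E (0, 1) = v := by simp [E]
  have hE11 : E (1, 1) = u * v := by simp [E]
  have hEZ : ∀ p, E p ∈ Z := fun p => mul_mem (pow_mem huZ _) (pow_mem hvZ _)
  have hswap : ∀ x y : T, y * x = x * y * ⁅x, y⁆ := fun x y => by
    have h1 : ⁅y, x⁆ = ⁅x, y⁆ := by rw [← commutatorElement_inv, hinv _ (hcm x y)]
    calc y * x = ⁅y, x⁆ * (x * y) := by simp only [commutatorElement_def]; group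
      _ = _ := by rw [h1, hcen (hcm x y)]
  refine ⟨g, E, ?_, ?_, fun p y => (hcen (hEZ p) y).symm, ?_, ?_, ?_, ?_, ?_, ?_, ?_, ?_, ?_, ?_⟩
  · -- generation
    set L := Subgroup.closure (Set.range g) with hL
    have m : ∀ i, g i ∈ L := fun i => Subgroup.subset_closure ⟨i, rfl⟩
    have mA : A ∈ L := m 0
    have mA' : σ A ∈ L := m 1
    have mB : B ∈ L := m 2
    have mB' : σ B ∈ L := m 3
    have hZL : Z ≤ L := fun w hw => by
      have mu : u ∈ L := mul_mem mA mA
      have mv : v ∈ L := hσA2 ▸ mul_mem mA' mA'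
      rcases hall w hw with rfl | rfl | rfl | rfl
      exacts [one_mem L, mu, mv, mul_mem mu mv]
    have hσL : L ≤ L.comap σ.toMonoidHom := by
      rw [hL, Subgroup.closure_le]
      rintro _ ⟨i, rfl⟩
      show σ (g i) ∈ L
      fin_cases i
      · exact mA'
      · show σ (σ A) ∈ L
        rw [R.sq_eq]; exact inv_mem (mul_mem mA mA')
      · exact mB'
      · show σ (σ B) ∈ L
        rw [R.sq_eq]; exact inv_mem (mul_mem mB mB')
    have h3 := R.card_mod L fun y hy => hσL hy
    obtain ⟨k, hk6, hk⟩ := (Nat.dvd_prime_pow Nat.prime_two).1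
      (show Nat.card L ∣ 2 ^ 6 by rw [show 2 ^ 6 = Nat.card T by rw [hT]; norm_num]; exact L.card_subgroup_dvd_card)
    have hbig : 16 < Nat.card L := by
      -- `A`, `σ A` and the centre give sixteen commuting elements, and `B` is not among them
      set M := Subgroup.closure ((Z : Set T) ∪ {A, σ A}) with hM
      have hMcomm : IsMulCommutative M := by
        refine Subgroup.isMulCommutative_closure ?_
        intro s hs t ht
        rcases hs with hs | hs
        · exact (hcen hs t).symm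
        rcases ht with ht | ht
        · exact hcen ht s
        rcases hs with rfl | rfl <;> rcases ht with rfl | rfl
        exacts [rfl, R.comm _, (R.comm _).symm, rfl]
      have hBM : B ∉ M := fun h => hu1 (by
        rw [← hAB]
        exact commutatorElement_eq_one_iff_mul_comm.2
          (congrArg Subtype.val (hMcomm.is_comm.comm (⟨A, Subgroup.subset_closure (by simp)⟩ : M) ⟨B, h⟩)))
      have hML : M ≤ L := by
        rw [hM, Subgroup.closure_le]
        rintro x (hx | rfl | rfl)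
        exacts [hZL hx, mA, mA']
      have hlt : Nat.card M < Nat.card L := lt_of_le_of_ne (Subgroup.card_le_of_le hML) fun h =>
        hBM (Subgroup.eq_of_le_of_card_ge hML h.ge ▸ mB)
      have hσM : M ≤ M.comap σ.toMonoidHom := by
        rw [hM, Subgroup.closure_le]
        rintro x (hx | rfl | rfl)
        · exact Subgroup.subset_closure (Or.inl (hσZ x hx))
        · exact Subgroup.subset_closure (by simp)
        · show σ (σ A) ∈ M
          rw [R.sq_eq]
          exact inv_mem (mul_mem (Subgroup.subset_closure (by simp)) (Subgroup.subset_closure (by simp)))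
      have hM4 : 4 < Nat.card M := by
        have hZM : Z ≤ M := fun z hz => Subgroup.subset_closure (Or.inl hz)
        rw [← hZ4]
        exact lt_of_le_of_ne (Subgroup.card_le_of_le hZM) fun h =>
          hAZ ((Subgroup.eq_of_le_of_card_ge hZM h.ge) ▸ Subgroup.subset_closure (by simp))
      have hM3 := R.card_mod M fun y hy => hσM hy
      obtain ⟨l, -, hl⟩ := (Nat.dvd_prime_pow Nat.prime_two).1
        (show Nat.card M ∣ 2 ^ 6 by rw [show 2 ^ 6 = Nat.card T by rw [hT]; norm_num]; exact M.card_subgroup_dvd_card)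
      rw [hl] at hM4 hM3 hlt
      have hl4 : 4 ≤ l := by
        by_contra h
        interval_cases l <;> omega
      have := Nat.pow_le_pow_right two_pos hl4
      omega
    refine Subgroup.eq_top_of_card_eq L ?_
    rw [hT, hk]
    rw [hk] at hbig h3
    interval_cases k <;> omega
  · intro p q
    have hadd : ∀ w : T, w * w = 1 → ∀ a b : Fin 2, w ^ (a + b).val = w ^ a.val * w ^ b.val := fun w hw a b => by
      fin_cases a <;> fin_cases b <;> simp [hw]
    show u ^ p.1.val * v ^ p.2.val * (u ^ q.1.val * v ^ q.2.val) = u ^ (p.1 + q.1).val * v ^ (p.2 + q.2).val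
    rw [hadd u (hZ2 u huZ), hadd v (hZ2 v hvZ),
      ((show Commute v u from hcen huZ v).pow_pow p.2.val q.1.val).mul_mul_mul_comm]
  · rw [hg0, hE10]
  · rw [hg1, hE01, hσA2]
  · rw [hg2, hE01, hBB]
  · rw [hg3, hE11, ← map_mul, hBB, hσv]
  · rw [hg1, hg0, R.comm]
  · rw [hg2, hg0, hswap A B, hAB, hE10]
  · rw [hg2, hg1, hswap (σ A) B, (hp A B).2.2, hAB, hE11]
  · rw [hg3, hg0, hswap A (σ B), (hp A B).2.1, hAB, hE11]
  · rw [hg3, hg1, hswap (σ A) (σ B), (hp A B).1, hAB, hE01]
  · rw [hg3, hg2, R.comm]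

end Cfsg.Agent.Lib.FpfThree
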