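import Cfsg.Agent.Lib.FpfThree.Basic
import Mathlib

/-!
A 2-group with an automorphism of order three fixing only the identity has class at most two.
-/

set_option autoImplicit false

namespace Cfsg.Agent.Lib.FpfThree

open scoped commutatorElement

universe u

namespace Fpf

variable {T : Type u} [Group T] [Finite T] {ρ : MulAut T} (R : Fpf T ρ)
include R

omit [Finite T] R in
theorem commute_conj {a b : T} (g : T) (h : Commute a b) : Commute (g * a * g⁻¹) (g * b * g⁻¹) := by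
  show g * a * g⁻¹ * (g * b * g⁻¹) = g * b * g⁻¹ * (g * a * g⁻¹)
  calc g * a * g⁻¹ * (g * b * g⁻¹) = g * (a * b) * g⁻¹ := by group
    _ = g * (b * a) * g⁻¹ := by rw [h.eq]
    _ = _ := by group

/-- Each element commutes with every conjugate of its images. -/
theorem conj_comm (x g : T) : Commute x (g * ρ x * g⁻¹) ∧ Commute x (g * ρ (ρ x) * g⁻¹) := by
  have h1 : ∀ x g : T, Commute x (g * ρ x * g⁻¹) := by
    intro x g
    have hinj : Function.Injective fun y : T => y⁻¹ * ρ y := by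
      intro a b h
      have h' : a⁻¹ * ρ a = b⁻¹ * ρ b := h
      refine mul_inv_eq_one.1 (R.fix _ ?_)
      rw [map_mul, map_inv, show ρ a = a * (b⁻¹ * ρ b) by rw [← h', mul_inv_cancel_left]]
      group
    obtain ⟨h, hh⟩ := hinj.bijective_of_finite.2 g
    have hh' : h⁻¹ * ρ h = g := hh
    have hc : Commute (h * x * h⁻¹) (ρ (h * x * h⁻¹)) := R.comm _
    have := commute_conj h⁻¹ hc
    rw [inv_inv, map_mul, map_mul, map_inv] at this
    have e1 : h⁻¹ * (h * x * h⁻¹) * h = x := by group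
    have e2 : h⁻¹ * (ρ h * ρ x * (ρ h)⁻¹) * h = g * ρ x * g⁻¹ := by rw [← hh']; group
    rwa [e1, e2] at this
  refine ⟨h1 x g, ?_⟩
  have := commute_conj g (h1 (ρ (ρ x)) g⁻¹)
  rw [R.cube, inv_inv] at this
  have e1 : g * (g⁻¹ * x * g) * g⁻¹ = x := by group
  rw [e1] at this
  exact this.symm

/-- Each element commutes with all its conjugates. -/
theorem engel (x g : T) : Commute x (g * x * g⁻¹) := by
  have e : g * x * g⁻¹ = (g * ρ (ρ x) * g⁻¹)⁻¹ * (g * ρ x * g⁻¹)⁻¹ := by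
    have h := R.prod_eq_one x
    have hx : x = (ρ (ρ x))⁻¹ * (ρ x)⁻¹ := by
      rw [← mul_inv_rev]; exact eq_inv_of_mul_eq_one_left (by rw [← mul_assoc]; exact h)
    conv_lhs => rw [hx]
    group
  rw [e]
  exact (R.conj_comm x g).2.inv_right.mul_right (R.conj_comm x g).1.inv_right

/-- The commutator of `x` and `y` commutes with `x`, `y`, `ρ x` and `ρ y`. -/
theorem comm_left (x y : T) : Commute x ⁅x, y⁆ ∧ Commute y ⁅x, y⁆ ∧ Commute (ρ x) ⁅x, y⁆ ∧ Commute (ρ y) ⁅x, y⁆ := by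
  have key : ∀ x y : T, Commute x ⁅x, y⁆ ∧ Commute (ρ x) ⁅x, y⁆ := by
    intro x y
    have e : ⁅x, y⁆ = x * (y * x * y⁻¹)⁻¹ := by rw [commutatorElement_def]; group
    rw [e]
    refine ⟨(Commute.refl x).mul_right (R.engel x y).inv_right, ?_⟩
    refine (show Commute (ρ x) x from (R.comm x).symm).mul_right (Commute.inv_right ?_)
    have h := commute_conj y (R.conj_comm x y⁻¹).1
    rw [inv_inv] at h
    have e2 : y * (y⁻¹ * ρ x * y) * y⁻¹ = ρ x := by group
    rw [e2] at h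
    exact h.symm
  have hyx := key y x
  rw [← commutatorElement_inv x y] at hyx
  exact ⟨(key x y).1, by simpa using hyx.1.inv_right, (key x y).2, by simpa using hyx.2.inv_right⟩

end Fpf

theorem classTwo_aux (k : ℕ) : ∀ (T : Type u) [Group T] [Finite T] (ρ : MulAut T), Nat.card T ≤ k →
    IsPGroup 2 T → Fpf T ρ → ∀ x y : T, ⁅x, y⁆ ∈ Subgroup.center T := by
  induction k with
  | zero => intro T _ _ ρ h; have := Nat.card_pos (α := T); omega
  | succ k ih =>
  intro T _ _ ρ hk hP R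
  classical
  haveI : Fact (Nat.Prime 2) := ⟨Nat.prime_two⟩
  rcases subsingleton_or_nontrivial T with hs | hn
  · intro x y; rw [Subsingleton.elim ⁅x, y⁆ 1]; exact one_mem _
  haveI := hP.center_nontrivial
  set Z := Subgroup.center T with hZdef
  have hinvZ : ∀ y ∈ Z, ρ y ∈ Z := fun y hy => by
    rw [hZdef, Subgroup.mem_center_iff] at hy ⊢
    intro t
    obtain ⟨s, rfl⟩ := ρ.surjective t
    rw [← map_mul, hy s, map_mul]
  have hcen : ∀ {z}, z ∈ Z → ∀ t, t * z = z * t := fun hz t => Subgroup.mem_center_iff.1 hz t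
  have hmap : Z.map ρ.toMonoidHom = Z := by
    refine Subgroup.eq_of_le_of_card_ge (Subgroup.map_le_iff_le_comap.2 hinvZ) ?_
    rw [Subgroup.card_map_of_injective (f := ρ.toMonoidHom) ρ.injective]
  let ρb : MulAut (T ⧸ Z) := QuotientGroup.congr Z Z ρ hmap
  have hρb : ∀ t : T, ρb (t : T ⧸ Z) = ((ρ t : T) : T ⧸ Z) := fun t => QuotientGroup.congr_mk' ..
  have Rb : Fpf (T ⧸ Z) ρb := by
    refine ⟨fun y => ?_, fun y hy => ?_⟩
    · obtain ⟨t, rfl⟩ := QuotientGroup.mk_surjective y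
      rw [hρb, hρb, hρb, R.cube]
    · obtain ⟨t, rfl⟩ := QuotientGroup.mk_surjective y
      rw [hρb] at hy
      exact (QuotientGroup.eq_one_iff t).2 (R.mem_of_diff hinvZ (QuotientGroup.eq.1 hy.symm) (fun n hn t => hcen hn t))
  have hlt : Nat.card (T ⧸ Z) < Nat.card T := by
    rw [Subgroup.card_eq_card_quotient_mul_card_subgroup Z]
    have h1 : 1 < Nat.card Z := Finite.one_lt_card
    have h2 := Nat.card_pos (α := T ⧸ Z)
    nlinarith
  have hf : ∀ x y z : T, ⁅⁅x, y⁆, z⁆ ∈ Z := by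
    intro x y z
    have h := ih (T ⧸ Z) ρb (by omega) (hP.to_quotient Z) Rb (x : T ⧸ Z) y
    rw [Subgroup.mem_center_iff] at h
    have e : ((⁅⁅x, y⁆, z⁆ : T) : T ⧸ Z) = ⁅⁅(x : T ⧸ Z), (y : T ⧸ Z)⁆, (z : T ⧸ Z)⁆ := by
      show QuotientGroup.mk' Z _ = _
      rw [map_commutatorElement, map_commutatorElement]; rfl
    rw [← QuotientGroup.eq_one_iff, e, commutatorElement_eq_one_iff_mul_comm]
    exact (h z).symm
  let f : T → T → T → T := fun x y z => ⁅⁅x, y⁆, z⁆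
  have hmul3 : ∀ x y z w, f x y (z * w) = f x y z * f x y w := fun x y z w => by
    show ⁅⁅x, y⁆, z * w⁆ = _
    calc ⁅⁅x, y⁆, z * w⁆ = ⁅⁅x, y⁆, z⁆ * (z * ⁅⁅x, y⁆, w⁆ * z⁻¹) := by simp only [commutatorElement_def]; group
      _ = _ := by rw [hcen (hf x y w) z, mul_inv_cancel_right]
  have hmul1 : ∀ x x' y z, f (x * x') y z = f x y z * f x' y z := fun x x' y z => by
    have e1 : ⁅x * x', y⁆ = ⁅x, ⁅x', y⁆⁆ * (⁅x', y⁆ * ⁅x, y⁆) := by
      simp only [commutatorElement_def]; group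
    have hk : ⁅x, ⁅x', y⁆⁆ ∈ Z := by
      rw [← commutatorElement_inv]; exact inv_mem (hf x' y x)
    show ⁅⁅x * x', y⁆, z⁆ = _
    rw [e1]
    calc ⁅⁅x, ⁅x', y⁆⁆ * (⁅x', y⁆ * ⁅x, y⁆), z⁆
        = ⁅x, ⁅x', y⁆⁆ * ⁅⁅x', y⁆ * ⁅x, y⁆, z⁆ * ⁅x, ⁅x', y⁆⁆⁻¹ * ⁅⁅x, ⁅x', y⁆⁆, z⁆ := by
          simp only [commutatorElement_def]; group
      _ = ⁅⁅x', y⁆ * ⁅x, y⁆, z⁆ := by
          rw [← hcen hk ⁅⁅x', y⁆ * ⁅x, y⁆, z⁆, mul_inv_cancel_right,
            commutatorElement_eq_one_iff_mul_comm.2 (hcen hk z).symm, mul_one]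
      _ = ⁅x', y⁆ * ⁅⁅x, y⁆, z⁆ * ⁅x', y⁆⁻¹ * ⁅⁅x', y⁆, z⁆ := by
          simp only [commutatorElement_def]; group
      _ = _ := by rw [hcen (hf x y z) ⁅x', y⁆, mul_inv_cancel_right]
  have h12 : ∀ x y z, f y x z = (f x y z)⁻¹ := fun x y z => by
    show ⁅⁅y, x⁆, z⁆ = ⁅⁅x, y⁆, z⁆⁻¹
    rw [← commutatorElement_inv x y]
    calc ⁅⁅x, y⁆⁻¹, z⁆ = ⁅x, y⁆⁻¹ * ⁅⁅x, y⁆, z⁆⁻¹ * ⁅x, y⁆ := by simp only [commutatorElement_def]; group
      _ = _ := by rw [hcen (inv_mem (hf x y z)), mul_assoc, inv_mul_cancel, mul_one]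
  have hone : ∀ {c z : T}, Commute z c → ⁅c, z⁆ = 1 := fun h =>
    commutatorElement_eq_one_iff_mul_comm.2 h.eq.symm
  have za : ∀ x y, f x y x = 1 := fun x y => hone (R.comm_left x y).1
  have zb : ∀ x y, f x y (ρ x) = 1 := fun x y => hone (R.comm_left x y).2.2.1
  have zc : ∀ x z, f x (ρ x) z = 1 := fun x z => by
    show ⁅⁅x, ρ x⁆, z⁆ = 1
    rw [commutatorElement_eq_one_iff_mul_comm.2 (R.comm x), commutatorElement_one_left]
  have hmul2 : ∀ x y y' z, f x (y * y') z = f x y z * f x y' z := fun x y y' z => by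
    rw [h12 (y * y') x z, hmul1, mul_inv_rev, ← h12 y x z, ← h12 y' x z]
    exact hcen (hf x y z) _
  -- the automorphism moves between the first two arguments
  have m12 : ∀ x y z, f x (ρ y) z = f (ρ x) y z := fun x y z => by
    have h := zc (x * y) z
    rw [map_mul, hmul1, hmul2, hmul2, zc, zc, one_mul, mul_one] at h
    rw [eq_inv_of_mul_eq_one_left h, ← h12 y (ρ x) z]
  have m13 : ∀ x y z, f x y (ρ z) = f (ρ x) y z := fun x y z => by
    have h := zb (x * z) y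
    rw [map_mul, hmul1, hmul3, hmul3, zb, zb, one_mul, mul_one] at h
    have h' := za (ρ x * z) y
    rw [hmul1, hmul3, hmul3, za, za, one_mul, mul_one] at h'
    rw [eq_inv_of_mul_eq_one_left h, eq_inv_of_mul_eq_one_left h']
  intro x y
  rw [Subgroup.mem_center_iff]
  intro z
  have e : ρ (f x y z) = f x y z := by
    have h1 : ρ (f x y z) = f (ρ x) (ρ y) (ρ z) := by
      show ρ ⁅⁅x, y⁆, z⁆ = _
      rw [map_commutatorElement, map_commutatorElement]
    rw [h1, m12, m13, R.cube]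
  exact (commutatorElement_eq_one_iff_mul_comm.1 (R.fix _ e)).symm

/-- The class is at most two. -/
theorem Fpf.classTwo {T : Type u} [Group T] [Finite T] {ρ : MulAut T} (R : Fpf T ρ) (hP : IsPGroup 2 T)
    (x y : T) : ⁅x, y⁆ ∈ Subgroup.center T :=
  classTwo_aux (Nat.card T) T ρ le_rfl hP R x y

end Cfsg.Agent.Lib.FpfThree
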