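import Cfsg.Agent.Lib.FpfThree.ClassTwo
import Mathlib

/-!
2-groups with a fixed-point-free automorphism of order three commuting with an involution having exactly
four fixed points.
-/

set_option autoImplicit false

namespace Cfsg.Agent.Lib.FpfThree

open scoped commutatorElement

universe u

/-- A nontrivial 2-group has a nontrivial element fixed by an involutive automorphism. -/
theorem exists_fixed {T : Type u} [Group T] [Finite T] (hP : IsPGroup 2 T) [Nontrivial T] (τ : MulAut T)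
    (hτ : ∀ x, τ (τ x) = x) : ∃ x, x ≠ 1 ∧ τ x = x := by
  classical
  haveI : Fact (Nat.Prime 2) := ⟨Nat.prime_two⟩
  letI := Fintype.ofFinite T
  let f : Function.End T := fun y => τ y
  have hf : f ^ 2 ^ 1 = 1 := funext fun y => hτ y
  have hmod := Equiv.Perm.card_fixedPoints_modEq (p := 2) (n := 1) hf
  rw [← Nat.card_eq_fintype_card, ← Nat.card_eq_fintype_card] at hmod
  by_contra! h
  have h1 : Nat.card (Function.fixedPoints f) = 1 := by
    rw [Nat.card_eq_one_iff_unique]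
    refine ⟨⟨fun a b => Subtype.ext ?_⟩, ⟨⟨1, map_one τ⟩⟩⟩
    have ha : (a : T) = 1 := by_contra fun e => h _ e a.2
    have hb : (b : T) = 1 := by_contra fun e => h _ e b.2
    exact ha.trans hb.symm
  obtain ⟨n, hn⟩ := IsPGroup.iff_card.1 hP
  rw [h1, hn, Nat.ModEq] at hmod
  cases n with
  | zero => rw [pow_zero] at hn; have := Finite.one_lt_card (α := T); omega
  | succ n => rw [pow_succ, Nat.mul_mod_left] at hmod; omega

/-- The hypotheses. -/
structure Four (T : Type u) [Group T] (σ τ : MulAut T) (V : Subgroup T) : Prop where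
  pgroup : IsPGroup 2 T
  fpf : Fpf T σ
  invol : ∀ x, τ (τ x) = x
  comm : ∀ x, τ (σ x) = σ (τ x)
  fixed : ∀ x, τ x = x ↔ x ∈ V
  card : Nat.card V = 4

namespace Four

variable {T : Type u} [Group T] [Finite T] {σ τ : MulAut T} {V : Subgroup T} (H : Four T σ τ V)
include H

theorem sigma_mem {v : T} (hv : v ∈ V) : σ v ∈ V := by
  rw [← H.fixed, H.comm, (H.fixed v).2 hv]

theorem mem_of_two {S : Subgroup T} (hS : ∀ x ∈ S, σ x ∈ S) (hle : S ≤ V) {s : T} (hs : s ∈ S) (hs1 : s ≠ 1) :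
    S = V := by
  refine Subgroup.eq_of_le_of_card_ge hle ?_
  have hd : Nat.card S ∣ 4 := H.card ▸ Subgroup.card_dvd_of_le hle
  have h3 := H.fpf.card_mod S hS
  have hS1 : 1 < Nat.card S := S.one_lt_card_iff_ne_bot.2 fun h => hs1 (by rw [h] at hs; exact hs)
  have := Nat.le_of_dvd (by norm_num) hd
  rw [H.card]
  interval_cases (Nat.card S) <;> omega

theorem sq_one {v : T} (hv : v ∈ V) : v * v = 1 := by
  by_contra h
  haveI : Fact (Nat.Prime 2) := ⟨Nat.prime_two⟩
  have hord : orderOf (⟨v, hv⟩ : V) ∣ 4 := H.card ▸ orderOf_dvd_natCard _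
  rw [Subgroup.orderOf_mk] at hord
  have hv4 : v ^ 4 = 1 := orderOf_dvd_iff_pow_eq_one.1 hord
  have ho : orderOf v = 4 := by
    refine orderOf_eq_prime_pow (n := 1) (p := 2) ?_ (by simpa using hv4)
    simpa [pow_two] using h
  have hVz : V = Subgroup.zpowers v := (Subgroup.eq_of_le_of_card_ge (Subgroup.zpowers_le.2 hv)
    (by rw [H.card, Nat.card_zpowers, ho])).symm
  obtain ⟨k, hk⟩ := Subgroup.mem_zpowers_iff.1 (hVz ▸ H.sigma_mem hv)
  have hS : Subgroup.zpowers (v * v) = V := by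
    refine H.mem_of_two ?_ (Subgroup.zpowers_le.2 (mul_mem hv hv)) (Subgroup.mem_zpowers _) h
    intro x hx
    obtain ⟨l, rfl⟩ := Subgroup.mem_zpowers_iff.1 hx
    rw [map_zpow, map_mul, ← hk]
    refine ⟨k * l, ?_⟩
    show (v * v) ^ (k * l) = (v ^ k * v ^ k) ^ l
    rw [← (Commute.refl v).mul_zpow, zpow_mul]
  have h2 : orderOf (v * v) = 2 := orderOf_eq_prime (by rw [pow_two, ← hv4]; simp [pow_succ, mul_assoc]) h
  have := congrArg (fun S : Subgroup T => Nat.card S) hS
  simp only [Nat.card_zpowers, h2, H.card] at this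
  omega

/-- The hypotheses pass to quotients. -/
theorem quotient (N : Subgroup T) [N.Normal] (hNσ : ∀ x ∈ N, σ x ∈ N) (hNτ : ∀ x ∈ N, τ x ∈ N)
    (hNc : ∀ n ∈ N, ∀ t : T, t * n = n * t) (hne : N ≠ ⊤) :
    ∃ (σb τb : MulAut (T ⧸ N)) (W : Subgroup (T ⧸ N)), Four (T ⧸ N) σb τb W ∧
      (∀ t : T, σb (t : T ⧸ N) = ((σ t : T) : T ⧸ N)) ∧ ∀ t : T, τb (t : T ⧸ N) = ((τ t : T) : T ⧸ N) := by
  classical
  have hmap : ∀ φ : MulAut T, (∀ x ∈ N, φ x ∈ N) → N.map φ.toMonoidHom = N := fun φ hφ => by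
    refine Subgroup.eq_of_le_of_card_ge (Subgroup.map_le_iff_le_comap.2 hφ) ?_
    rw [Subgroup.card_map_of_injective (f := φ.toMonoidHom) φ.injective]
  let σb : MulAut (T ⧸ N) := QuotientGroup.congr N N σ (hmap σ hNσ)
  let τb : MulAut (T ⧸ N) := QuotientGroup.congr N N τ (hmap τ hNτ)
  have hσb : ∀ t : T, σb (t : T ⧸ N) = ((σ t : T) : T ⧸ N) := fun t => QuotientGroup.congr_mk' ..
  have hτb : ∀ t : T, τb (t : T ⧸ N) = ((τ t : T) : T ⧸ N) := fun t => QuotientGroup.congr_mk' ..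
  let W : Subgroup (T ⧸ N) :=
    { carrier := {y | τb y = y}
      mul_mem' := fun {a b} ha hb => by
        show τb (a * b) = a * b
        rw [map_mul, show τb a = a from ha, show τb b = b from hb]
      one_mem' := map_one τb
      inv_mem' := fun {a} ha => by
        show τb a⁻¹ = a⁻¹
        rw [map_inv, show τb a = a from ha] }
  have hR : Fpf (T ⧸ N) σb := by
    refine ⟨fun y => ?_, fun y hy => ?_⟩
    · obtain ⟨t, rfl⟩ := QuotientGroup.mk_surjective y
      rw [hσb, hσb, hσb, H.fpf.cube]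
    · obtain ⟨t, rfl⟩ := QuotientGroup.mk_surjective y
      rw [hσb] at hy
      exact (QuotientGroup.eq_one_iff t).2 (H.fpf.mem_of_diff hNσ (QuotientGroup.eq.1 hy.symm) hNc)
  have hinvol : ∀ y, τb (τb y) = y := fun y => by
    obtain ⟨t, rfl⟩ := QuotientGroup.mk_surjective y
    rw [hτb, hτb, H.invol]
  have hcomm : ∀ y, τb (σb y) = σb (τb y) := fun y => by
    obtain ⟨t, rfl⟩ := QuotientGroup.mk_surjective y
    rw [hσb, hτb, hτb, hσb, H.comm]
  refine ⟨σb, τb, W, ⟨H.pgroup.to_quotient N, hR, hinvol, hcomm, fun y => Iff.rfl, ?_⟩, hσb, hτb⟩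
  -- the fixed points of the quotient
  set P := W.comap (QuotientGroup.mk' N) with hP
  have hPmem : ∀ x : T, x ∈ P ↔ x⁻¹ * τ x ∈ N := fun x => by
    show τb (x : T ⧸ N) = (x : T ⧸ N) ↔ _
    rw [hτb, eq_comm, QuotientGroup.eq]
  let ψ : P → N := fun x => ⟨(x : T)⁻¹ * τ x, (hPmem x).1 x.2⟩
  have hfib : Nat.card P ≤ Nat.card N * 4 := by
    rw [← H.card, ← Nat.card_prod]
    have hsel : ∀ n : N, ∃ w : T, (∃ x : P, ψ x = n) → ∃ x : P, ψ x = n ∧ (x : T) = w := fun n => by
      by_cases h : ∃ x : P, ψ x = n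
      · obtain ⟨x, hx⟩ := h; exact ⟨x, fun _ => ⟨x, hx, rfl⟩⟩
      · exact ⟨1, fun h' => absurd h' h⟩
    choose w hw using hsel
    have hv : ∀ x : P, (x : T) * (w (ψ x))⁻¹ ∈ V := fun x => by
      obtain ⟨x', h1, h2⟩ := hw (ψ x) ⟨x, rfl⟩
      have h1' : (x' : T)⁻¹ * τ x' = (x : T)⁻¹ * τ x := congrArg Subtype.val h1
      rw [← H.fixed, map_mul, map_inv, ← h2,
        show τ (x : T) = x * ((x' : T)⁻¹ * τ x') by rw [h1', mul_inv_cancel_left]]
      group
    refine Nat.card_le_card_of_injective (fun x : P => (ψ x, (⟨_, hv x⟩ : V))) fun x y h => Subtype.ext ?_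
    have h1 : ψ x = ψ y := (Prod.ext_iff.1 h).1
    have h2 : (x : T) * (w (ψ x))⁻¹ = (y : T) * (w (ψ y))⁻¹ := congrArg Subtype.val (Prod.ext_iff.1 h).2
    rw [h1] at h2
    exact mul_right_cancel h2
  have hcardP : Nat.card P = Nat.card W * Nat.card N := by
    have h1 := P.card_mul_index
    rw [hP, Subgroup.index_comap_of_surjective W (QuotientGroup.mk'_surjective N), ← hP,
      Subgroup.card_eq_card_quotient_mul_card_subgroup N, ← W.card_mul_index] at h1
    exact Nat.eq_of_mul_eq_mul_right (Nat.pos_of_ne_zero W.index_ne_zero_of_finite) (h1.trans (by ring))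
  have hle : Nat.card W ≤ 4 := by
    rw [hcardP, mul_comm] at hfib
    exact Nat.le_of_mul_le_mul_left hfib Nat.card_pos
  haveI : Nontrivial (T ⧸ N) := by
    rw [← Finite.one_lt_card_iff_nontrivial, ← Subgroup.index_eq_card]
    exact Subgroup.one_lt_index_of_ne_top hne
  obtain ⟨y, hy1, hy⟩ := exists_fixed (H.pgroup.to_quotient N) τb hinvol
  have h3 := hR.card_mod W fun z hz => by
    show τb (σb z) = σb z
    rw [hcomm, show τb z = z from hz]
  have hW1 : 1 < Nat.card W := W.one_lt_card_iff_ne_bot.2 fun h => hy1 (by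
    have : y ∈ W := hy
    rwa [h, Subgroup.mem_bot] at this)
  omega

/-- Powers of two bound the kernels of the power maps. -/
theorem card_pow_ker (hc : ∀ a b : T, Commute a b) (h1 : ∀ x : T, x * x = 1 → x ∈ V) :
    ∀ k : ℕ, Nat.card (MonoidHom.mk' (fun y : T => y ^ 2 ^ k) fun a b => (hc a b).mul_pow _).ker ≤ 4 ^ k := by
  intro k
  induction k with
  | zero =>
    have : (MonoidHom.mk' (fun y : T => y ^ 2 ^ 0) fun a b => (hc a b).mul_pow _).ker = ⊥ := by
      rw [Subgroup.eq_bot_iff_forall]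
      intro x hx
      simpa using hx
    rw [this, Subgroup.card_bot, pow_zero]
  | succ k ih =>
    set K := (MonoidHom.mk' (fun y : T => y ^ 2 ^ (k + 1)) fun a b => (hc a b).mul_pow _).ker with hK
    set K' := (MonoidHom.mk' (fun y : T => y ^ 2 ^ k) fun a b => (hc a b).mul_pow _).ker with hK'
    let g : K →* K' := MonoidHom.mk' (fun x => ⟨(x : T) ^ 2, by
      have hx : (x : T) ^ 2 ^ (k + 1) = 1 := x.2
      show ((x : T) ^ 2) ^ 2 ^ k = 1
      rw [← pow_mul, ← pow_succ', hx]⟩) fun a b => Subtype.ext ((hc a b).mul_pow 2)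
    have hk1 := g.ker.card_mul_index
    rw [Subgroup.index_ker] at hk1
    have hk2 : Nat.card g.ker ≤ 4 := by
      rw [← H.card]
      refine Nat.card_le_card_of_injective (fun x => (⟨((x : K) : T), h1 _ ?_⟩ : V)) fun a b h =>
        Subtype.ext (Subtype.ext (congrArg (fun v : V => (v : T)) h :))
      have := congrArg Subtype.val (show g x = 1 from x.2)
      rw [← pow_two]; exact this
    have hk3 : Nat.card g.range ≤ Nat.card K' := Subgroup.card_le_card_group _
    rw [← hk1, pow_succ, mul_comm (4 ^ k)]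
    exact Nat.mul_le_mul hk2 (hk3.trans ih)

/-- The commutative case. -/
theorem abelian (hc : ∀ a b : T, Commute a b) :
    (Nat.card T = 16 ∧ ∀ x : T, x * x = 1) ∨
      ∃ n : ℕ, 1 ≤ n ∧ ∃ x : T, (∀ y : T, ∃ i j : ℕ, y = x ^ i * σ x ^ j) ∧
        Nonempty (T ≃* Multiplicative (ZMod (2 ^ n)) × Multiplicative (ZMod (2 ^ n))) := by
  classical
  haveI : Fact (Nat.Prime 2) := ⟨Nat.prime_two⟩
  let Om : Subgroup T := (MonoidHom.mk' (fun y : T => y ^ 2) fun a b => (hc a b).mul_pow _).ker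
  have hOm : ∀ x : T, x ∈ Om ↔ x * x = 1 := fun x => by
    show x ^ 2 = 1 ↔ _
    rw [pow_two]
  have hVOm : V ≤ Om := fun v hv => (hOm v).2 (H.sq_one hv)
  -- the map onto the fixed points
  let μ : Om →* V := MonoidHom.mk' (fun x => ⟨(x : T) * τ x, by
    rw [← H.fixed, map_mul, H.invol]; exact (hc _ _).eq⟩) fun a b => Subtype.ext (by
      show (a : T) * b * τ ((a : T) * b) = (a : T) * τ a * ((b : T) * τ b)
      rw [map_mul, (hc (b : T) (τ a)).mul_mul_mul_comm])
  have hμker : Nat.card μ.ker = 4 := by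
    rw [← H.card]
    refine Nat.card_congr ⟨fun x => ⟨((x : Om) : T), ?_⟩, fun v => ⟨⟨v, hVOm v.2⟩, ?_⟩, fun x => rfl, fun v => rfl⟩
    · have h1 : ((x : Om) : T) * τ ((x : Om) : T) = 1 := congrArg Subtype.val (show μ x = 1 from x.2)
      rw [← H.fixed, ← mul_right_inj ((x : Om) : T), h1]
      exact ((hOm _).1 (x : Om).2).symm
    · refine MonoidHom.mem_ker.2 (Subtype.ext ?_)
      show (v : T) * τ v = 1
      rw [(H.fixed v).2 v.2, H.sq_one v.2]
  have hμ := μ.ker.card_mul_index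
  rw [Subgroup.index_ker, hμker] at hμ
  have hrle : Nat.card μ.range ≤ 4 := (Subgroup.card_le_card_group _).trans_eq H.card
  by_cases hsurj : Function.Surjective μ
  · left
    have hr : Nat.card μ.range = 4 := by
      rw [MonoidHom.range_eq_top.2 hsurj, Subgroup.card_top, H.card]
    have hexp : ∀ x : T, x * x = 1 := by
      by_contra! hne
      obtain ⟨x₀, hx₀⟩ := hne
      -- a fixed square
      set Sq := (MonoidHom.mk' (fun y : T => y ^ 2) fun a b => (hc a b).mul_pow _).range with hSq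
      have hx₀S : x₀ * x₀ ∈ Sq := ⟨x₀, pow_two x₀⟩
      have hinv : ∀ φ : MulAut T, ∀ y ∈ Sq, φ y ∈ Sq := by
        rintro φ _ ⟨y, rfl⟩
        exact ⟨φ y, (map_pow φ y 2).symm⟩
      haveI : Nontrivial Sq := ⟨⟨⟨_, hx₀S⟩, 1, fun h => hx₀ (congrArg Subtype.val h)⟩⟩
      let τS : MulAut Sq :=
        { toFun := fun y => ⟨τ y, hinv τ _ y.2⟩
          invFun := fun y => ⟨τ y, hinv τ _ y.2⟩
          left_inv := fun y => Subtype.ext (H.invol _)
          right_inv := fun y => Subtype.ext (H.invol _)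
          map_mul' := fun a b => Subtype.ext (map_mul τ _ _) }
      obtain ⟨⟨_, u, rfl⟩, hv1, hvτ⟩ := exists_fixed (H.pgroup.to_subgroup Sq) τS fun y => Subtype.ext (H.invol _)
      have hvτ' : τ (u ^ 2) = u ^ 2 := congrArg Subtype.val hvτ
      have hu2 : u ^ 2 ≠ 1 := fun h => hv1 (Subtype.ext h)
      have hu2V : u ^ 2 ∈ V := (H.fixed _).1 hvτ'
      have hwV : u * τ u ∈ V := by
        rw [← H.fixed, map_mul, H.invol]; exact (hc _ _).eq
      obtain ⟨a, ha⟩ := hsurj ⟨u * τ u * (u ^ 2), mul_mem hwV hu2V⟩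
      have ha' : (a : T) * τ a = u * τ u * u ^ 2 := congrArg Subtype.val ha
      have haa : (a : T) * a = 1 := (hOm _).1 a.2
      have hu4 : u ^ 2 * u ^ 2 = 1 := H.sq_one hu2V
      have hy : τ (u * a) = u * a := by
        have e1 : τ (a : T) = a * (u * τ u * u ^ 2) := by rw [← ha', ← mul_assoc, haa, one_mul]
        have hw := H.sq_one hwV
        rw [map_mul, e1]
        calc τ u * ((a : T) * (u * τ u * u ^ 2)) = (a : T) * (τ u * (u * τ u) * u ^ 2) := by
              rw [(hc (τ u) (a : T)).left_comm]; group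
          _ = (a : T) * (τ u * (u * τ u) * (u * u)) := by rw [pow_two]
          _ = (a : T) * ((u * τ u) * (u * τ u) * u) := by
              rw [(hc (τ u) (u * τ u)).eq]
              rw [show u * τ u * τ u * (u * u) = u * τ u * (τ u * u) * u by group, (hc (τ u) u).eq]
          _ = u * a := by rw [hw, one_mul, (hc _ _).eq]
      have h1 := H.sq_one ((H.fixed _).1 hy)
      rw [(hc (a : T) u).mul_mul_mul_comm, haa, mul_one, ← pow_two] at h1
      exact hu2 h1
    refine ⟨?_, hexp⟩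
    have htop : Om = ⊤ := eq_top_iff.2 fun x _ => (hOm x).2 (hexp x)
    rw [← Subgroup.card_top (G := T), ← htop, ← hμ, hr]
  right
  have hOmV : Om = V := by
    refine (Subgroup.eq_of_le_of_card_ge hVOm ?_).symm
    have hrlt : Nat.card μ.range < 4 := by
      refine lt_of_le_of_ne hrle fun h => hsurj (MonoidHom.range_eq_top.1 ?_)
      exact Subgroup.eq_top_of_card_eq _ (h.trans H.card.symm)
    have h3 := H.fpf.card_mod Om fun x hx => (hOm _).2 (by rw [← map_mul, (hOm x).1 hx, map_one])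
    have h4 := Nat.card_pos (α := μ.range)
    rw [H.card, ← hμ]
    rw [← hμ] at h3
    interval_cases (Nat.card μ.range) <;> omega
  have h1 : ∀ x : T, x * x = 1 → x ∈ V := fun x hx => hOmV ▸ (hOm x).2 hx
  -- an element of largest order
  haveI : Nonempty T := ⟨1⟩
  obtain ⟨x, hxmax⟩ := Finite.exists_max fun y : T => orderOf y
  obtain ⟨n, hn⟩ := IsPGroup.iff_orderOf.1 H.pgroup x
  have hexp : ∀ y : T, y ^ 2 ^ n = 1 := fun y => by
    obtain ⟨m, hm⟩ := IsPGroup.iff_orderOf.1 H.pgroup y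
    refine orderOf_dvd_iff_pow_eq_one.1 (hm ▸ pow_dvd_pow 2 ?_)
    have := hxmax y
    rw [hm, hn] at this
    exact (Nat.pow_le_pow_iff_right Nat.one_lt_two).1 this
  have hn1 : 1 ≤ n := by
    by_contra h0
    obtain rfl : n = 0 := by omega
    have h : ∀ v ∈ V, v = 1 := fun v _ => by simpa using hexp v
    have hV1 : V = ⊥ := (Subgroup.eq_bot_iff_forall V).2 h
    have hc4 := H.card
    rw [hV1, Subgroup.card_bot] at hc4
    omega
  obtain ⟨m, rfl⟩ : ∃ m, n = m + 1 := ⟨n - 1, by omega⟩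
  refine ⟨m + 1, by omega, x, ?_⟩
  set N := 2 ^ (m + 1) with hN
  haveI : NeZero N := ⟨by positivity⟩
  have hpow : ∀ (z : T) (a b : ZMod N), z ^ (a + b).val = z ^ a.val * z ^ b.val := fun z a b => by
    rw [← pow_add, ZMod.val_add]
    conv_rhs => rw [← Nat.mod_add_div (a.val + b.val) N, pow_add, pow_mul, hexp z, one_pow, mul_one]
  let ψ : Multiplicative (ZMod N) × Multiplicative (ZMod N) →* T := MonoidHom.mk'
    (fun p => x ^ p.1.toAdd.val * σ x ^ p.2.toAdd.val) fun a b => by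
      show x ^ (a.1 * b.1).toAdd.val * σ x ^ (a.2 * b.2).toAdd.val = _
      rw [toAdd_mul, toAdd_mul, hpow, hpow,
        (hc (x ^ b.1.toAdd.val) (σ x ^ a.2.toAdd.val)).mul_mul_mul_comm]
  have hinj : Function.Injective ψ := by
    rw [← MonoidHom.ker_eq_bot_iff]
    by_contra hne
    have hP' : IsPGroup 2 (Multiplicative (ZMod N) × Multiplicative (ZMod N)) := IsPGroup.of_card
      (n := 2 * (m + 1)) (by rw [Nat.card_prod, Nat.card_congr Multiplicative.toAdd, Nat.card_zmod, hN,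
        ← pow_add, two_mul])
    haveI : Nontrivial ψ.ker := (Subgroup.nontrivial_iff_ne_bot _).2 hne
    obtain ⟨k, hk⟩ := exists_prime_orderOf_dvd_card' (G := ψ.ker) 2
      ((hP'.to_subgroup ψ.ker).card_eq_or_dvd.resolve_left Finite.one_lt_card.ne')
    rw [← Subgroup.orderOf_coe] at hk
    set p : Multiplicative (ZMod N) × Multiplicative (ZMod N) := ↑k with hp
    have hp2 : p ^ 2 = 1 := orderOf_dvd_iff_pow_eq_one.1 hk.dvd
    have hval : ∀ a : ZMod N, a + a = 0 → a.val = 0 ∨ a.val = 2 ^ m := fun a ha => by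
      have h := congrArg ZMod.val ha
      rw [ZMod.val_add, ZMod.val_zero] at h
      have hlt := ZMod.val_lt a
      obtain ⟨c, hcc⟩ := Nat.dvd_of_mod_eq_zero h
      have hN' : N = 2 * 2 ^ m := by rw [hN, pow_succ, mul_comm]
      rcases c with _ | _ | c
      · left; omega
      · right; omega
      · exfalso; nlinarith
    have ha := hval p.1.toAdd (by
      have := congrArg (fun q => (Prod.fst q).toAdd) hp2
      simpa [pow_two] using this)
    have hb := hval p.2.toAdd (by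
      have := congrArg (fun q => (Prod.snd q).toAdd) hp2
      simpa [pow_two] using this)
    have hne' : ¬ (p.1.toAdd.val = 0 ∧ p.2.toAdd.val = 0) := fun h => by
      have : p = 1 := Prod.ext (by simpa [ZMod.val_eq_zero] using h.1) (by simpa [ZMod.val_eq_zero] using h.2)
      rw [this, orderOf_one] at hk; omega
    have hψ : x ^ p.1.toAdd.val * σ x ^ p.2.toAdd.val = 1 := k.2
    set w := x ^ 2 ^ m with hw
    have hwne : w ≠ 1 := fun h => by
      have := orderOf_dvd_of_pow_eq_one h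
      rw [hn, Nat.pow_dvd_pow_iff_le_right Nat.one_lt_two] at this
      omega
    have hw2 : w * w = 1 := by
      rw [hw, ← pow_add, ← two_mul, ← pow_succ']; exact hexp x
    rcases ha with ha | ha <;> rcases hb with hb | hb <;> rw [ha, hb] at hψ
    · exact hne' ⟨ha, hb⟩
    · rw [pow_zero, one_mul, ← map_pow] at hψ
      exact hwne (σ.injective (hψ.trans (map_one σ).symm))
    · rw [pow_zero, mul_one] at hψ
      exact hwne hψ
    · rw [← map_pow, ← hw] at hψ
      exact hwne (H.fpf.fix w (by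
        rw [← mul_right_inj w, hψ, hw2]))
  have hle : Nat.card T ≤ Nat.card (Multiplicative (ZMod N) × Multiplicative (ZMod N)) := by
    have h := card_pow_ker H hc h1 (m + 1)
    have htop : (MonoidHom.mk' (fun y : T => y ^ 2 ^ (m + 1)) fun a b => (hc a b).mul_pow _).ker = ⊤ :=
      eq_top_iff.2 fun y _ => hexp y
    rw [htop, Subgroup.card_top] at h
    refine h.trans (le_of_eq ?_)
    rw [Nat.card_prod, Nat.card_congr Multiplicative.toAdd, Nat.card_zmod, hN, ← mul_pow]
    norm_num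
  have hbij := hinj.bijective_of_nat_card_le hle
  refine ⟨fun y => ?_, ⟨(MulEquiv.ofBijective ψ hbij).symm⟩⟩
  obtain ⟨p, rfl⟩ := hbij.2 y
  exact ⟨_, _, rfl⟩

/-- The structure of the nonabelian case. -/
theorem nonabelian (hVc : V ≤ Subgroup.center T) (hne : ∃ a b : T, a * b ≠ b * a) :
    Nat.card T = 64 ∧ Subgroup.center T = V ∧ (∀ y : T, y * y ∈ V) ∧
      ∀ A : T, A * A = 1 → A ∉ V → ⁅A, τ A⁆ ≠ 1 := by
  classical
  haveI : Fact (Nat.Prime 2) := ⟨Nat.prime_two⟩
  set Z := Subgroup.center T with hZdef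
  have hcen : ∀ {z}, z ∈ Z → ∀ t, t * z = z * t := fun hz t => Subgroup.mem_center_iff.1 hz t
  have hinvZ : ∀ φ : MulAut T, ∀ y ∈ Z, φ y ∈ Z := fun φ y hy => by
    rw [hZdef, Subgroup.mem_center_iff] at hy ⊢
    intro t
    obtain ⟨s, rfl⟩ := φ.surjective t
    rw [← map_mul, hy s, map_mul]
  have hcm : ∀ a b : T, ⁅a, b⁆ ∈ Z := H.fpf.classTwo H.pgroup
  have hZne : Z ≠ ⊤ := fun h => by
    obtain ⟨a, b, hab⟩ := hne
    exact hab (hcen (by rw [h]; trivial) a)
  obtain ⟨σb, τb, W, Hb, hσb, hτb⟩ :=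
    H.quotient Z (hinvZ σ) (hinvZ τ) (fun n hn t => hcen hn t) hZne
  have hcb : ∀ a b : T ⧸ Z, Commute a b := fun a b => by
    obtain ⟨a, rfl⟩ := QuotientGroup.mk_surjective a
    obtain ⟨b, rfl⟩ := QuotientGroup.mk_surjective b
    rw [commute_iff_eq, ← commutatorElement_eq_one_iff_mul_comm]
    show ⁅QuotientGroup.mk' Z a, QuotientGroup.mk' Z b⁆ = 1
    rw [← map_commutatorElement]
    exact (QuotientGroup.eq_one_iff _).2 (hcm a b)
  obtain ⟨hA16, hAexp⟩ : Nat.card (T ⧸ Z) = 16 ∧ ∀ y : T ⧸ Z, y * y = 1 := by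
    refine (Hb.abelian hcb).resolve_right ?_
    rintro ⟨n, -, xb, hgen, -⟩
    obtain ⟨x, rfl⟩ := QuotientGroup.mk_surjective xb
    obtain ⟨a, b, hab⟩ := hne
    refine hab ?_
    have key : ∀ y : T, ∃ z ∈ Z, ∃ i j : ℕ, y = x ^ i * σ x ^ j * z := fun y => by
      obtain ⟨i, j, hij⟩ := hgen y
      rw [hσb, ← QuotientGroup.mk_pow, ← QuotientGroup.mk_pow, ← QuotientGroup.mk_mul] at hij
      exact ⟨_, QuotientGroup.eq.1 hij.symm, i, j, (mul_inv_cancel_left _ _).symm⟩
    obtain ⟨z, hz, i, j, rfl⟩ := key a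
    obtain ⟨z', hz', i', j', rfl⟩ := key b
    have hxσ : Commute x (σ x) := H.fpf.comm x
    have hC : Commute (x ^ i * σ x ^ j) (x ^ i' * σ x ^ j') :=
      (((Commute.refl x).pow_pow i i').mul_right (hxσ.pow_pow i j')).mul_left
        ((hxσ.symm.pow_pow j i').mul_right ((Commute.refl (σ x)).pow_pow j j'))
    exact ((hC.mul_right (hcen hz' _)).mul_left (Commute.symm (hcen hz _))).eq
  have hsqZ : ∀ y : T, y * y ∈ Z := fun y => (QuotientGroup.eq_one_iff _).1 (by
    rw [QuotientGroup.mk_mul]; exact hAexp _)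
  have hbl : ∀ x y z : T, ⁅x * y, z⁆ = ⁅x, z⁆ * ⁅y, z⁆ := fun x y z => by
    calc ⁅x * y, z⁆ = x * ⁅y, z⁆ * x⁻¹ * ⁅x, z⁆ := by simp only [commutatorElement_def]; group
      _ = ⁅y, z⁆ * ⁅x, z⁆ := by rw [hcen (hcm y z) x, mul_inv_cancel_right]
      _ = _ := (hcen (hcm y z) _).symm
  have hc2 : ∀ a b : T, ⁅a, b⁆ * ⁅a, b⁆ = 1 := fun a b => by
    rw [← hbl, commutatorElement_eq_one_iff_mul_comm.2 (hcen (hsqZ a) b).symm]
  have hinv2 : ∀ a b : T, ⁅a, b⁆⁻¹ = ⁅a, b⁆ := fun a b => inv_eq_of_mul_eq_one_right (hc2 a b)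
  have hsym : ∀ a b : T, ⁅b, a⁆ = ⁅a, b⁆ := fun a b => by rw [← commutatorElement_inv, hinv2]
  have hbr : ∀ a b c : T, ⁅a, b * c⁆ = ⁅a, b⁆ * ⁅a, c⁆ := fun a b c => by
    rw [hsym (b * c), hbl, hsym a b, hsym a c]
  have hmov : ∀ a b : T, ⁅a, σ b⁆ = ⁅σ a, b⁆ := fun a b => by
    have h := commutatorElement_eq_one_iff_mul_comm.2 (H.fpf.comm (a * b))
    rw [map_mul, hbl, hbr, hbr, commutatorElement_eq_one_iff_mul_comm.2 (H.fpf.comm a),
      commutatorElement_eq_one_iff_mul_comm.2 (H.fpf.comm b), one_mul, mul_one, hsym (σ a) b] at h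
    rw [eq_inv_of_mul_eq_one_left h, hinv2]
  have hinvc : ∀ a b : T, ⁅a⁻¹, b⁆ = ⁅a, b⁆ := fun a b => by
    have h := hbl a⁻¹ a b
    rw [inv_mul_cancel, commutatorElement_one_left] at h
    rw [eq_inv_of_mul_eq_one_left h.symm, hinv2]
  have hpair : ∀ a b : T, ⁅a, σ b⁆ = ⁅a, b⁆ * σ ⁅a, b⁆ := fun a b => by
    have h1 : σ ⁅a, b⁆ = ⁅σ (σ a), b⁆ := by rw [map_commutatorElement, hmov]
    rw [h1, H.fpf.sq_eq, hinvc, hbl, ← mul_assoc, hc2, one_mul, hmov]
  have hτfix : ∀ a : T, ⁅a, τ a⁆ ∈ V := fun a => by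
    rw [← H.fixed, map_commutatorElement, H.invol, hsym a]
  -- four generators modulo the centre
  have hgen : ∀ a : T, τb (a : T ⧸ Z) ≠ (a : T ⧸ Z) →
      Subgroup.closure ({(a : T ⧸ Z), σb a, τb a, τb (σb a)} : Set (T ⧸ Z)) = ⊤ := by
    intro a ha
    set y : T ⧸ Z := (a : T ⧸ Z) with hy
    have hy1 : y ≠ 1 := fun h => ha (by rw [h, map_one])
    set M := Subgroup.closure ({y, σb y, τb y, τb (σb y)} : Set (T ⧸ Z)) with hM
    have m1 : y ∈ M := Subgroup.subset_closure (by simp)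
    have m2 : σb y ∈ M := Subgroup.subset_closure (by simp)
    have m3 : τb y ∈ M := Subgroup.subset_closure (by simp)
    have m4 : τb (σb y) ∈ M := Subgroup.subset_closure (by simp)
    have hσM : M ≤ M.comap σb.toMonoidHom := by
      rw [hM, Subgroup.closure_le]
      rintro _ (rfl | rfl | rfl | rfl)
      · exact m2
      · show σb (σb y) ∈ M
        rw [Hb.fpf.sq_eq]; exact inv_mem (mul_mem m1 m2)
      · show σb (τb y) ∈ M
        rw [← Hb.comm]; exact m4
      · show σb (τb (σb y)) ∈ M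
        rw [← Hb.comm, Hb.fpf.sq_eq, map_inv, map_mul]; exact inv_mem (mul_mem m3 m4)
    have h3 := Hb.fpf.card_mod M fun z hz => hσM hz
    have hd : Nat.card M ∣ 2 ^ 4 := by
      rw [show 2 ^ 4 = Nat.card (T ⧸ Z) by rw [hA16]; norm_num]; exact M.card_subgroup_dvd_card
    refine Subgroup.eq_top_of_card_eq M ?_
    obtain ⟨k, hk4, hk⟩ := (Nat.dvd_prime_pow Nat.prime_two).1 hd
    rw [hA16, hk]
    interval_cases k
    · exact absurd ((Subgroup.mem_bot).1 (Subgroup.card_eq_one.1 (by simpa using hk) ▸ m1)) hy1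
    · rw [hk] at h3; norm_num at h3
    · exfalso
      have hfib : Function.Bijective
          (![1, ⟨y, m1⟩, ⟨σb y, m2⟩, ⟨σb (σb y), hσM m2⟩] : Fin 4 → M) := by
        refine (Nat.bijective_iff_injective_and_card _).2 ⟨fun i j h => ?_, by rw [Nat.card_fin, hk]; norm_num⟩
        have e1 : σb y ≠ y := fun h => hy1 (Hb.fpf.fix y h)
        have e2 : σb y ≠ 1 := fun h => hy1 (σb.injective (h.trans (map_one _).symm))
        have e3 : σb (σb y) ≠ 1 := fun h => e2 (σb.injective (h.trans (map_one _).symm))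
        have e4 : σb (σb y) ≠ σb y := fun h => e1 (σb.injective h)
        have e5 : σb (σb y) ≠ y := fun h => e1 (by
          have h' := congrArg σb h
          rw [Hb.fpf.cube] at h'
          exact h'.symm)
        fin_cases i <;> fin_cases j <;>
          first | rfl | (exfalso; simp [Subtype.ext_iff, hy1, hy1.symm, e1, e1.symm, e2, e2.symm, e3, e3.symm, e4, e4.symm, e5, e5.symm] at h)
      obtain ⟨i, hi⟩ := hfib.2 ⟨τb y, m3⟩
      have hy' : y = τb (τb y) := (Hb.invol y).symm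
      have hi' := congrArg Subtype.val hi
      fin_cases i <;> simp at hi'
      · exact hy1 (τb.injective (hi'.symm.trans (map_one τb).symm))
      · exact ha hi'.symm
      · rw [← hi', Hb.comm, ← hi'] at hy'
        exact hy1 (Hb.fpf.fix y (by
          have h6 := congrArg σb hy'
          rw [Hb.fpf.cube] at h6
          exact h6))
      · rw [← hi', Hb.comm, Hb.comm, ← hi', Hb.fpf.cube] at hy'
        exact hy1 (Hb.fpf.fix y hy'.symm)
    · rw [hk] at h3; norm_num at h3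
    · norm_num
  -- all commutators are fixed
  obtain ⟨x, hx⟩ : ∃ x : T, τb (x : T ⧸ Z) ≠ (x : T ⧸ Z) := by
    by_contra! h
    have : W = ⊤ := eq_top_iff.2 fun y _ => by
      obtain ⟨t, rfl⟩ := QuotientGroup.mk_surjective y
      exact (Hb.fixed _).1 (h t)
    have hc4 := Hb.card
    rw [this, Subgroup.card_top, hA16] at hc4; omega
  have hVinv : ∀ v ∈ V, σ v ∈ V := fun v hv => H.sigma_mem hv
  set c := ⁅x, τ x⁆ with hcdef
  have hcV : c ∈ V := hτfix x
  have hlift' : ∀ x : T, τb (x : T ⧸ Z) ≠ (x : T ⧸ Z) →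
      ∀ y : T, y ∈ Subgroup.closure (({x, σ x, τ x, τ (σ x)} : Set T) ∪ Z) := by
    intro x hx y
    set L := Subgroup.closure (({x, σ x, τ x, τ (σ x)} : Set T) ∪ Z) with hL
    have hle : Subgroup.closure ({(x : T ⧸ Z), σb x, τb x, τb (σb x)} : Set (T ⧸ Z)) ≤
        L.map (QuotientGroup.mk' Z) := by
      rw [Subgroup.closure_le]
      rintro _ (rfl | rfl | rfl | rfl)
      · exact ⟨x, Subgroup.subset_closure (by simp), rfl⟩
      · exact ⟨σ x, Subgroup.subset_closure (by simp), (hσb x).symm⟩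
      · exact ⟨τ x, Subgroup.subset_closure (by simp), (hτb x).symm⟩
      · exact ⟨τ (σ x), Subgroup.subset_closure (by simp), by rw [hσb, hτb]; rfl⟩
    rw [hgen x hx] at hle
    obtain ⟨w, hw, hwy⟩ := hle (Subgroup.mem_top (y : T ⧸ Z))
    have : w⁻¹ * y ∈ Z := QuotientGroup.eq.1 hwy
    have hm := mul_mem hw (Subgroup.subset_closure (Or.inr this) : w⁻¹ * y ∈ L)
    rwa [mul_inv_cancel_left] at hm
  have hlift := hlift' x hx
  have hnc : ∀ a : T, τb (a : T ⧸ Z) ≠ (a : T ⧸ Z) → ⁅a, τ a⁆ ≠ 1 := by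
    intro a ha h0
    have c0 : ∀ {u v : T}, ⁅u, v⁆ = 1 → u * v = v * u := fun h => commutatorElement_eq_one_iff_mul_comm.1 h
    have k0 : ⁅a, σ a⁆ = 1 := commutatorElement_eq_one_iff_mul_comm.2 (H.fpf.comm a)
    have k1 : ⁅τ a, τ (σ a)⁆ = 1 := by
      rw [H.comm]; exact commutatorElement_eq_one_iff_mul_comm.2 (H.fpf.comm (τ a))
    have k2 : ⁅a, τ (σ a)⁆ = 1 := by rw [H.comm, hpair, h0, map_one, one_mul]
    have k3 : ⁅σ a, τ a⁆ = 1 := by rw [← hmov, ← H.comm]; exact k2
    have k4 : ⁅σ a, τ (σ a)⁆ = 1 := by rw [H.comm, ← map_commutatorElement, h0, map_one]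
    have hcl : ∀ s ∈ (({a, σ a, τ a, τ (σ a)} : Set T) ∪ Z), ∀ t ∈ (({a, σ a, τ a, τ (σ a)} : Set T) ∪ Z),
        s * t = t * s := by
      intro s hs t ht
      rcases hs with hs | hs
      swap
      · exact (hcen hs t).symm
      rcases ht with ht | ht
      swap
      · exact hcen ht s
      rcases hs with rfl | rfl | rfl | rfl <;> rcases ht with rfl | rfl | rfl | rfl <;>
        first
          | rfl
          | (apply c0; assumption)
          | (apply Eq.symm; apply c0; assumption)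
    have hab := Subgroup.isMulCommutative_closure hcl
    obtain ⟨u, v, huv⟩ := hne
    exact huv (congrArg Subtype.val (hab.is_comm.comm ⟨u, hlift' a ha u⟩ ⟨v, hlift' a ha v⟩))
  have hcomV : ∀ a b : T, ⁅a, b⁆ ∈ V := by
    let S : T → Subgroup T := fun a =>
      { carrier := {b | ⁅a, b⁆ ∈ V}
        mul_mem' := fun {b b'} hb hb' => by
          show ⁅a, b * b'⁆ ∈ V
          rw [hbr]; exact mul_mem hb hb'
        one_mem' := by show ⁅a, 1⁆ ∈ V; rw [commutatorElement_one_right]; exact one_mem V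
        inv_mem' := fun {b} hb => by
          show ⁅a, b⁻¹⁆ ∈ V
          rw [hsym b⁻¹, hinvc, hsym a]; exact hb }
    have g0 : ⁅x, σ x⁆ ∈ V := by rw [commutatorElement_eq_one_iff_mul_comm.2 (H.fpf.comm x)]; exact one_mem V
    have g1 : ⁅τ x, τ (σ x)⁆ ∈ V := by
      rw [H.comm, commutatorElement_eq_one_iff_mul_comm.2 (H.fpf.comm (τ x))]; exact one_mem V
    have g2 : ⁅x, τ (σ x)⁆ ∈ V := by rw [H.comm, hpair]; exact mul_mem hcV (hVinv _ hcV)
    have g3 : ⁅σ x, τ x⁆ ∈ V := by rw [← hmov, ← H.comm]; exact g2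
    have g4 : ⁅σ x, τ (σ x)⁆ ∈ V := hτfix (σ x)
    have hbase : ∀ a ∈ (({x, σ x, τ x, τ (σ x)} : Set T) ∪ Z), ∀ b ∈ (({x, σ x, τ x, τ (σ x)} : Set T) ∪ Z),
        ⁅a, b⁆ ∈ V := by
      intro a ha b hb
      rcases ha with ha | ha
      swap
      · rw [commutatorElement_eq_one_iff_mul_comm.2 (hcen ha b).symm]; exact one_mem V
      rcases hb with hb | hb
      swap
      · rw [commutatorElement_eq_one_iff_mul_comm.2 (hcen hb a)]; exact one_mem V
      rcases ha with rfl | rfl | rfl | rfl <;> rcases hb with rfl | rfl | rfl | rfl <;>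
        first
          | (rw [commutatorElement_self]; exact one_mem V)
          | assumption
          | (rw [hsym]; assumption)
    intro a b
    have h1 : ∀ a ∈ (({x, σ x, τ x, τ (σ x)} : Set T) ∪ Z), ∀ b : T, ⁅a, b⁆ ∈ V := fun a ha b =>
      ((Subgroup.closure_le (S a)).2 (fun b hb => hbase a ha b hb)) (hlift b)
    have h2 := ((Subgroup.closure_le (S b)).2 (fun a ha => show ⁅b, a⁆ ∈ V by rw [hsym]; exact h1 a ha b)) (hlift a)
    rw [hsym]; exact h2
  -- the quotient by the fixed points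
  haveI hVn : V.Normal := ⟨fun v hv g => by rw [hcen (hVc hv) g, mul_inv_cancel_right]; exact hv⟩
  have hVne : V ≠ ⊤ := fun h => hZne (eq_top_iff.2 (h ▸ hVc))
  obtain ⟨σv, τv, W', Hv, hσv, -⟩ := H.quotient V hVinv
    (fun v hv => by rw [(H.fixed v).2 hv]; exact hv) (fun n hn t => hcen (hVc hn) t) hVne
  have hcv : ∀ a b : T ⧸ V, Commute a b := fun a b => by
    obtain ⟨a, rfl⟩ := QuotientGroup.mk_surjective a
    obtain ⟨b, rfl⟩ := QuotientGroup.mk_surjective b
    rw [commute_iff_eq, ← commutatorElement_eq_one_iff_mul_comm]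
    show ⁅QuotientGroup.mk' V a, QuotientGroup.mk' V b⁆ = 1
    rw [← map_commutatorElement]
    exact (QuotientGroup.eq_one_iff _).2 (hcomV a b)
  obtain ⟨hV16, hVexp⟩ : Nat.card (T ⧸ V) = 16 ∧ ∀ y : T ⧸ V, y * y = 1 := by
    refine (Hv.abelian hcv).resolve_right ?_
    rintro ⟨n, -, xb, hgen', -⟩
    obtain ⟨a₀, rfl⟩ := QuotientGroup.mk_surjective xb
    obtain ⟨a, b, hab⟩ := hne
    refine hab ?_
    have key : ∀ y : T, ∃ z ∈ Z, ∃ i j : ℕ, y = a₀ ^ i * σ a₀ ^ j * z := fun y => by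
      obtain ⟨i, j, hij⟩ := hgen' y
      rw [hσv, ← QuotientGroup.mk_pow, ← QuotientGroup.mk_pow, ← QuotientGroup.mk_mul] at hij
      exact ⟨_, hVc (QuotientGroup.eq.1 hij.symm), i, j, (mul_inv_cancel_left _ _).symm⟩
    obtain ⟨z, hz, i, j, rfl⟩ := key a
    obtain ⟨z', hz', i', j', rfl⟩ := key b
    have hxσ : Commute a₀ (σ a₀) := H.fpf.comm a₀
    have hC : Commute (a₀ ^ i * σ a₀ ^ j) (a₀ ^ i' * σ a₀ ^ j') :=
      (((Commute.refl a₀).pow_pow i i').mul_right (hxσ.pow_pow i j')).mul_left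
        ((hxσ.symm.pow_pow j i').mul_right ((Commute.refl (σ a₀)).pow_pow j j'))
    exact ((hC.mul_right (hcen hz' _)).mul_left (Commute.symm (hcen hz _))).eq
  have h64 : Nat.card T = 64 := by
    rw [Subgroup.card_eq_card_quotient_mul_card_subgroup V, hV16, H.card]
  have hZV : Z = V := by
    refine (Subgroup.eq_of_le_of_card_ge hVc ?_).symm
    have := Subgroup.card_eq_card_quotient_mul_card_subgroup Z
    rw [hA16, h64] at this
    rw [H.card]
    omega
  refine ⟨h64, hZV, fun y => (QuotientGroup.eq_one_iff _).1 (by rw [QuotientGroup.mk_mul]; exact hVexp _),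
    fun A hA hAV hc1 => ?_⟩
  -- a noncentral involution
  have hAZ : (A : T ⧸ Z) ≠ 1 := fun h => hAV (hZV ▸ (QuotientGroup.eq_one_iff A).1 h)
  by_cases hτA : τb (A : T ⧸ Z) = (A : T ⧸ Z)
  · -- `A` lies in the image of `y ↦ y * τ y`
    let μ : T ⧸ Z → T ⧸ Z := fun y => y * τb y
    have hwx : τb ((x : T ⧸ Z) * τb x) = (x : T ⧸ Z) * τb x := by
      rw [map_mul, Hb.invol]; exact (hcb _ _).eq
    have hwne : (x : T ⧸ Z) * τb x ≠ 1 := fun h => hx (by
      rw [← inv_eq_of_mul_eq_one_right h, inv_eq_of_mul_eq_one_right (hAexp _)])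
    set w := (x : T ⧸ Z) * τb x with hw
    have hS : Subgroup.closure ({w, σb w} : Set (T ⧸ Z)) = W := by
      refine Hb.mem_of_two ?_ ?_ (Subgroup.subset_closure (by simp)) hwne
      · have hle : Subgroup.closure ({w, σb w} : Set (T ⧸ Z)) ≤
            (Subgroup.closure ({w, σb w} : Set (T ⧸ Z))).comap σb.toMonoidHom := by
          rw [Subgroup.closure_le]
          rintro _ (rfl | rfl)
          · exact Subgroup.subset_closure (by simp)
          · rw [SetLike.mem_coe, Subgroup.mem_comap]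
            show σb (σb w) ∈ _
            rw [Hb.fpf.sq_eq]
            exact inv_mem (mul_mem (Subgroup.subset_closure (by simp)) (Subgroup.subset_closure (by simp)))
        exact fun z hz => hle hz
      · rw [Subgroup.closure_le]
        rintro _ (rfl | rfl)
        · exact (Hb.fixed _).1 hwx
        · exact Hb.sigma_mem ((Hb.fixed _).1 hwx)
    have hfull : ∀ z ∈ W, ∃ y : T, z = (y : T ⧸ Z) * τb y := by
      intro z hz
      rw [← hS] at hz
      refine Subgroup.closure_induction (p := fun z _ => ∃ y : T, z = (y : T ⧸ Z) * τb y) ?_ ?_ ?_ ?_ hz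
      · rintro _ (rfl | rfl)
        · exact ⟨x, hw⟩
        · exact ⟨σ x, by rw [← hσb, hw, map_mul, Hb.comm]⟩
      · exact ⟨1, by simp⟩
      · rintro a b - - ⟨p, rfl⟩ ⟨q, rfl⟩
        exact ⟨p * q, by rw [QuotientGroup.mk_mul, map_mul, (hcb (q : T ⧸ Z) (τb p)).mul_mul_mul_comm]⟩
      · rintro a - ⟨p, rfl⟩
        exact ⟨p⁻¹, by rw [QuotientGroup.mk_inv, map_inv, mul_inv_rev, (hcb _ _).eq]⟩
    obtain ⟨y, hy⟩ := hfull _ ((Hb.fixed _).1 hτA)
    rw [hτb, ← QuotientGroup.mk_mul] at hy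
    obtain ⟨z, hzZ, hAz⟩ : ∃ z ∈ Z, y * τ y = A * z := ⟨_, QuotientGroup.eq.1 hy, (mul_inv_cancel_left _ _).symm⟩
    have hz2 : z * z = 1 := H.sq_one (hZV ▸ hzZ)
    have h1 : (y * τ y) * (y * τ y) = 1 := by
      rw [hAz]
      calc A * z * (A * z) = A * A * (z * z) := by
            rw [show A * z * (A * z) = A * (z * A) * z by group, ← hcen hzZ A]; group
        _ = 1 := by rw [hA, hz2, one_mul]
    have hyV : y * y ∈ V := (QuotientGroup.eq_one_iff _).1 (by rw [QuotientGroup.mk_mul]; exact hVexp _)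
    have h2 : (y * τ y) * (y * τ y) = ⁅y, τ y⁆ := by
      have e1 : τ y * τ y = y * y := by rw [← map_mul]; exact (H.fixed _).2 hyV
      have e2 : τ y * y = ⁅τ y, y⁆ * (y * τ y) := by rw [commutatorElement_def]; group
      calc (y * τ y) * (y * τ y) = y * (τ y * y) * τ y := by group
        _ = y * ⁅τ y, y⁆ * (y * τ y) * τ y := by rw [e2]; group
        _ = ⁅τ y, y⁆ * ((y * y) * (τ y * τ y)) := by rw [hcen (hcm _ _) y]; group
        _ = _ := by rw [e1, H.sq_one hyV, mul_one, hsym y]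
    -- `y` generates modulo the centre, so its commutator with its image is not trivial
    have hyne : τb (y : T ⧸ Z) ≠ (y : T ⧸ Z) := fun h => hAZ (by
      rw [hy, QuotientGroup.mk_mul, ← hτb, h, hAexp])
    exact hnc y hyne (h2 ▸ h1)
  · exact hnc A hτA hc1

end Four

end Cfsg.Agent.Lib.FpfThree
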