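import Cfsg.Agent.Lib.FpfThree.SixtyFour
import Mathlib

/-!
The groups of order 64 with a symmetric group of degree three acting are Sylow 2-subgroups of PSL(3,4).
-/

set_option autoImplicit false

namespace Cfsg.Agent.Lib.FpfThree

open scoped Matrix
open scoped commutatorElement

universe u

/-- Upper unitriangular matrices as elements of `SL(3, F)`. -/
def uni {F : Type} [Field F] (p : F × F × F) : Matrix.SpecialLinearGroup (Fin 3) F :=
  ⟨!![1, p.1, p.2.2; 0, 1, p.2.1; 0, 0, 1], by simp [Matrix.det_fin_three]⟩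

theorem uni_mul {F : Type} [Field F] (p q : F × F × F) :
    uni p * uni q = uni (p.1 + q.1, p.2.1 + q.2.1, p.2.2 + q.2.2 + p.1 * q.2.1) := by
  apply Subtype.ext
  show (!![1, p.1, p.2.2; 0, 1, p.2.1; 0, 0, 1] : Matrix (Fin 3) (Fin 3) F) *
    !![1, q.1, q.2.2; 0, 1, q.2.1; 0, 0, 1] = !![1, p.1 + q.1, p.2.2 + q.2.2 + p.1 * q.2.1; 0, 1, p.2.1 + q.2.1; 0, 0, 1]
  ext i j
  fin_cases i <;> fin_cases j <;> simp [Matrix.mul_apply, Fin.sum_univ_three] <;> ring

theorem uni_inj {F : Type} [Field F] {p q : F × F × F} (h : uni p = uni q) : p = q := by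
  have h' := congrArg (fun M : Matrix.SpecialLinearGroup (Fin 3) F => (M : Matrix (Fin 3) (Fin 3) F)) h
  refine Prod.ext ?_ (Prod.ext ?_ ?_)
  · simpa [uni] using congrFun (congrFun h' 0) 1
  · simpa [uni] using congrFun (congrFun h' 1) 2
  · simpa [uni] using congrFun (congrFun h' 0) 2

/-- A group parametrised by the Heisenberg law over `F` is a Sylow 2-subgroup of `PSL(3, F)`. -/
theorem equiv_sylow {F : Type} [Field F] [Fintype F] (hF : Fintype.card F = 4) {T : Type u} [Group T]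
    [Finite T] (hT : Nat.card T = 64) (f : F × F × F → T) (hinj : Function.Injective f)
    (hmul : ∀ p q, f p * f q = f (p.1 + q.1, p.2.1 + q.2.1, p.2.2 + q.2.2 + p.1 * q.2.1)) :
    ∃ S : Sylow 2 (Matrix.ProjectiveSpecialLinearGroup (Fin 3) F),
      Nonempty (T ≃* ↥(S : Subgroup (Matrix.ProjectiveSpecialLinearGroup (Fin 3) F))) := by
  classical
  haveI : Fact (Nat.Prime 2) := ⟨Nat.prime_two⟩
  have h3 : Nat.card (F × F × F) = 64 := by
    rw [Nat.card_prod, Nat.card_prod, Nat.card_eq_fintype_card, hF]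
  have hbij : Function.Bijective f := (Nat.bijective_iff_injective_and_card f).2 ⟨hinj, by rw [h3, hT]⟩
  let e := (Equiv.ofBijective f hbij).symm
  let g : T →* Matrix.ProjectiveSpecialLinearGroup (Fin 3) F := MonoidHom.mk'
    (fun t => QuotientGroup.mk' _ (uni (e t))) fun a b => by
      rw [← map_mul, uni_mul]
      refine congrArg _ (congrArg uni ?_)
      apply (Equiv.ofBijective f hbij).injective
      show (Equiv.ofBijective f hbij) ((Equiv.ofBijective f hbij).symm (a * b)) = _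
      rw [Equiv.apply_symm_apply]
      show a * b = f _
      rw [← hmul]
      exact congrArg₂ (· * ·) ((Equiv.ofBijective f hbij).apply_symm_apply a).symm
        ((Equiv.ofBijective f hbij).apply_symm_apply b).symm
  have hg : Function.Injective g := by
    intro a b h
    apply e.injective
    have h' : ((uni (e a) : Matrix.SpecialLinearGroup (Fin 3) F) :
        Matrix.ProjectiveSpecialLinearGroup (Fin 3) F) = (uni (e b) : Matrix.SpecialLinearGroup (Fin 3) F) := h
    rw [QuotientGroup.eq, Matrix.SpecialLinearGroup.mem_center_iff] at h'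
    obtain ⟨r, -, hr⟩ := h'
    have hinv : (uni (e a))⁻¹ = uni ((e a).1, (e a).2.1, (e a).2.2 + (e a).1 * (e a).2.1) := by
      have h2 : ∀ x : F, x + x = 0 := fun x => by
        haveI : CharP F 2 := by
          obtain ⟨p, hp⟩ := CharP.exists F
          obtain ⟨d, hpp, hd⟩ := FiniteField.card F p
          have : p ∣ 2 := hpp.dvd_of_dvd_pow (n := 2) (by
            rw [show (2 : ℕ) ^ 2 = p ^ (d : ℕ) by rw [← hd, hF]; norm_num]
            exact dvd_pow_self p d.pos.ne')
          rwa [(Nat.prime_dvd_prime_iff_eq hpp Nat.prime_two).1 this] at hp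
        exact CharTwo.add_self_eq_zero x
      apply inv_eq_of_mul_eq_one_right
      rw [uni_mul]
      apply Subtype.ext
      simp only [uni, Matrix.SpecialLinearGroup.coe_one, ← add_assoc, h2, zero_add]
      ext i j
      fin_cases i <;> fin_cases j <;> simp [h2]
    rw [hinv, uni_mul] at hr
    have hone : uni ((e a).1 + (e b).1, (e a).2.1 + (e b).2.1,
        (e a).2.2 + (e a).1 * (e a).2.1 + (e b).2.2 + (e a).1 * (e b).2.1) = 1 := by
      apply Subtype.ext
      rw [← hr]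
      have h00 : r = 1 := by simpa [uni] using congrFun (congrFun hr 0) 0
      rw [h00, map_one, Matrix.SpecialLinearGroup.coe_one]
    have key : uni (e b) = uni (e a) := by
      calc uni (e b) = uni (e a) * ((uni (e a))⁻¹ * uni (e b)) := by group
        _ = uni (e a) := by rw [hinv, uni_mul, hone, mul_one]
    exact (uni_inj key).symm
  obtain ⟨S, hS⟩ := ((IsPGroup.of_card (G := (⊤ : Subgroup T)) (p := 2) (n := 6) (by rw [Subgroup.card_top, hT]; norm_num)).map g).exists_le_sylow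
  have hgS : g.range ≤ S := by rw [MonoidHom.range_eq_map]; exact hS
  have hrange : Nat.card g.range = 64 := by rw [← hT]; exact (Nat.card_congr (MonoidHom.ofInjective hg).toEquiv).symm
  have hdvd : Nat.card (S : Subgroup (Matrix.ProjectiveSpecialLinearGroup (Fin 3) F)) ∣ 2 ^ 6 * 2835 := by
    have hGL : Nat.card (GL (Fin 3) F) = 2 ^ 6 * 2835 := by
      rw [Matrix.card_GL_field, hF, Fin.prod_univ_three]; norm_num
    rw [← hGL]
    refine (S : Subgroup (Matrix.ProjectiveSpecialLinearGroup (Fin 3) F)).card_subgroup_dvd_card.trans ?_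
    refine dvd_trans ?_ (Subgroup.card_dvd_of_injective
      (Matrix.SpecialLinearGroup.toGL : Matrix.SpecialLinearGroup (Fin 3) F →* GL (Fin 3) F)
      Matrix.SpecialLinearGroup.toGL_injective)
    exact Subgroup.card_quotient_dvd_card _
  obtain ⟨k, hk⟩ := S.2.exists_card_eq
  rw [hk] at hdvd
  have hk6 : 2 ^ k ∣ 2 ^ 6 := (Nat.Coprime.pow_left k (by norm_num : Nat.Coprime 2 2835)).dvd_of_dvd_mul_right hdvd
  have heq : g.range = (S : Subgroup (Matrix.ProjectiveSpecialLinearGroup (Fin 3) F)) :=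
    Subgroup.eq_of_le_of_card_ge hgS (by rw [hrange, hk]; exact Nat.le_of_dvd (by norm_num) hk6)
  exact ⟨S, ⟨(MonoidHom.ofInjective hg).trans (MulEquiv.subgroupCongr heq)⟩⟩

/-- Coordinates from two involutions which do not commute. -/
theorem param {T : Type u} [Group T] [Finite T] (hT : Nat.card T = 64) (hne : ∃ x y : T, x * y ≠ y * x)
    {ρ : MulAut T} (R : Fpf T ρ) {A B : T} (hA : A * A = 1) (hB : B * B = 1) (hAB : ⁅A, B⁆ ≠ 1) :
    ∃ (F : Type) (_ : Field F) (_ : Fintype F), Fintype.card F = 4 ∧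
      ∃ S : Sylow 2 (Matrix.ProjectiveSpecialLinearGroup (Fin 3) F),
        Nonempty (T ≃* ↥(S : Subgroup (Matrix.ProjectiveSpecialLinearGroup (Fin 3) F))) := by
  classical
  haveI : Fact (Nat.Prime 2) := ⟨Nat.prime_two⟩
  obtain ⟨-, -, hcm, hZ2⟩ := R.structure64 hT hne
  set Z := Subgroup.center T with hZdef
  have hcen : ∀ {z}, z ∈ Z → ∀ t, t * z = z * t := fun hz t => Subgroup.mem_center_iff.1 hz t
  obtain ⟨p1, p2, p3⟩ := R.pair hcm hZ2 A B
  set c := ⁅A, B⁆ with hc
  set e := c * ρ c with he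
  have hcZ : c ∈ Z := hcm A B
  have hρcZ : ρ c ∈ Z := p1 ▸ hcm (ρ A) (ρ B)
  have heZ : e ∈ Z := mul_mem hcZ hρcZ
  have hcc := hZ2 c hcZ
  have hee := hZ2 e heZ
  have hce : c * e = ρ c := by rw [he, ← mul_assoc, hcc, one_mul]
  have hρcne : ρ c ≠ c := fun h => hAB (R.fix c h)
  have hρc1 : ρ c ≠ 1 := fun h => hAB (ρ.injective (h.trans (map_one ρ).symm))
  have he1 : e ≠ 1 := fun h => hρcne (by
    rw [← inv_eq_of_mul_eq_one_right h]; exact inv_eq_of_mul_eq_one_right hcc)
  -- exponents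
  let F := GaloisField 2 2
  letI : Fintype F := Fintype.ofFinite F
  have hF : Fintype.card F = 4 := by
    rw [← Nat.card_eq_fintype_card, GaloisField.card 2 2 (by norm_num)]; norm_num
  obtain ⟨w, hw0, hw1⟩ : ∃ w : F, w ≠ 0 ∧ w ≠ 1 := by
    by_contra! hall
    have := Finset.card_le_card (show (Finset.univ : Finset F) ⊆ {0, 1} from fun x _ => by
      by_cases h : x = 0 <;> simp [h, hall x])
    rw [Finset.card_univ, hF] at this
    have := this.trans Finset.card_le_two
    omega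
  have h2 : (2 : F) = 0 := CharTwo.two_eq_zero
  have hw : w * w = w + 1 := by
    have h3 : w ^ 3 = 1 := by
      have := FiniteField.pow_card_sub_one_eq_one w hw0
      rwa [hF] at this
    have : (w - 1) * (w * w + w + 1) = 0 := by linear_combination h3
    have hq := (mul_eq_zero.1 this).resolve_left (sub_ne_zero.2 hw1)
    linear_combination hq - (w + 1) * h2
  let co : Fin 2 × Fin 2 → F := fun i => (i.1.1 : F) + (i.2.1 : F) * w
  have hco : Function.Bijective co := by
    refine (Fintype.bijective_iff_injective_and_card co).2 ⟨?_, by rw [hF]; rfl⟩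
    have hw1' : (1 : F) + w ≠ 0 := fun h => hw1 (by linear_combination h - h2)
    intro i j h
    obtain ⟨i1, i2⟩ := i
    obtain ⟨j1, j2⟩ := j
    fin_cases i1 <;> fin_cases i2 <;> fin_cases j1 <;> fin_cases j2 <;>
      simp [co, hw0, Ne.symm hw0, hw1, Ne.symm hw1, hw1', Ne.symm hw1'] at h ⊢
  let E := (Equiv.ofBijective co hco).symm
  have hE : ∀ i, E (co i) = i := fun i => (Equiv.ofBijective co hco).symm_apply_apply i
  have hEs : ∀ r : F, co (E r) = r := fun r => (Equiv.ofBijective co hco).apply_symm_apply r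
  -- the addition and multiplication of coordinates
  have hcast : ∀ a b : Fin 2, (((a + b : Fin 2).1 : ℕ) : F) = (a.1 : F) + (b.1 : F) := by
    intro a b
    fin_cases a <;> fin_cases b <;> simp [CharTwo.add_self_eq_zero]
  have hcastm : ∀ a b : Fin 2, (((a * b : Fin 2).1 : ℕ) : F) = (a.1 : F) * (b.1 : F) := by
    intro a b
    fin_cases a <;> fin_cases b <;> simp
  have hadd : ∀ i j : Fin 2 × Fin 2, co i + co j = co (i.1 + j.1, i.2 + j.2) := by
    intro i j
    simp only [co, hcast]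
    ring
  have hmulco : ∀ i j : Fin 2 × Fin 2, co i * co j =
      co (i.1 * j.1 + i.2 * j.2, i.1 * j.2 + i.2 * j.1 + i.2 * j.2) := by
    intro i j
    simp only [co, hcast, hcastm]
    linear_combination ((i.2.1 : F) * (j.2.1 : F)) * hw
  let al : T → T → Fin 2 × Fin 2 → T := fun u v i => u ^ i.1.1 * v ^ i.2.1
  have hal : ∀ u v : T, u * u = 1 → v * v = 1 → u * v = v * u → ∀ i j,
      al u v i * al u v j = al u v (i.1 + j.1, i.2 + j.2) := by
    intro u v hu hv huv i j
    obtain ⟨i1, i2⟩ := i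
    obtain ⟨j1, j2⟩ := j
    have h3 : ∀ r : T, u * (u * r) = r := fun r => by rw [← mul_assoc, hu, one_mul]
    have h4 : ∀ r : T, v * (u * r) = u * (v * r) := fun r => by rw [← mul_assoc, ← huv, mul_assoc]
    have h5 : ∀ r : T, v * (v * r) = r := fun r => by rw [← mul_assoc, hv, one_mul]
    fin_cases i1 <;> fin_cases i2 <;> fin_cases j1 <;> fin_cases j2 <;>
      simp [al, mul_assoc, hu, hv, huv.symm, h3, h4, h5]
  have hbl : ∀ p q r : T, ⁅p * q, r⁆ = ⁅p, r⁆ * ⁅q, r⁆ := fun p q r => by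
    calc ⁅p * q, r⁆ = p * ⁅q, r⁆ * p⁻¹ * ⁅p, r⁆ := by simp only [commutatorElement_def]; group
      _ = ⁅q, r⁆ * ⁅p, r⁆ := by rw [hcen (hcm q r) p, mul_inv_cancel_right]
      _ = _ := (hcen (hcm q r) _).symm
  have hbr : ∀ p q r : T, ⁅p, q * r⁆ = ⁅p, q⁆ * ⁅p, r⁆ := fun p q r => by
    calc ⁅p, q * r⁆ = ⁅p, q⁆ * (q * ⁅p, r⁆ * q⁻¹) := by simp only [commutatorElement_def]; group
      _ = _ := by rw [hcen (hcm p r) q, mul_inv_cancel_right]
  have hkey : ∀ i j, ⁅al A (ρ A) i, al B (ρ B) j⁆ =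
      al c e (i.1 * j.1 + i.2 * j.2, i.1 * j.2 + i.2 * j.1 + i.2 * j.2) := by
    rintro ⟨i1, i2⟩ ⟨j1, j2⟩
    have hec : e * c = c * e := hcen hcZ e
    have h6 : ∀ r : T, c * (e * r) = ρ c * r := fun r => by rw [← mul_assoc, hce]
    have hρρ : ρ c * ρ c = 1 := hZ2 _ hρcZ
    have h7 : c * ρ c = e := rfl
    have heρ : e * ρ c = c := by rw [he, mul_assoc, hρρ, mul_one]
    fin_cases i1 <;> fin_cases i2 <;> fin_cases j1 <;> fin_cases j2 <;>
      simp [al, hbl, hbr, p1, p2, p3, hec, hce, heρ, mul_assoc, ← hc, (hcen hρcZ c).symm, h7]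
  let f : F × F × F → T := fun p => al B (ρ B) (E p.2.1) * al A (ρ A) (E p.1) * al c e (E p.2.2)
  have hγZ : ∀ i, al c e i ∈ Z := fun i => mul_mem (pow_mem hcZ _) (pow_mem heZ _)
  have hmul : ∀ p q, f p * f q = f (p.1 + q.1, p.2.1 + q.2.1, p.2.2 + q.2.2 + p.1 * q.2.1) := by
    intro p q
    have hA' : ∀ u v : F, al A (ρ A) (E u) * al A (ρ A) (E v) = al A (ρ A) (E (u + v)) := fun u v => by
      rw [hal A (ρ A) hA (by rw [← map_mul, hA, map_one]) (R.comm A), ← hE (_, _), ← hadd, hEs, hEs]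
    have hB' : ∀ u v : F, al B (ρ B) (E u) * al B (ρ B) (E v) = al B (ρ B) (E (u + v)) := fun u v => by
      rw [hal B (ρ B) hB (by rw [← map_mul, hB, map_one]) (R.comm B), ← hE (_, _), ← hadd, hEs, hEs]
    have hC' : ∀ u v : F, al c e (E u) * al c e (E v) = al c e (E (u + v)) := fun u v => by
      rw [hal c e hcc hee (hcen heZ c), ← hE (_, _), ← hadd, hEs, hEs]
    have hK : ∀ u v : F, al A (ρ A) (E u) * al B (ρ B) (E v) =
        al B (ρ B) (E v) * al A (ρ A) (E u) * al c e (E (u * v)) := fun u v => by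
      have hk := hkey (E u) (E v)
      rw [← hE (_, _), ← hmulco, hEs, hEs] at hk
      rw [hcen (hγZ _), ← hk, commutatorElement_def]
      group
    obtain ⟨x1, y1, z1⟩ := p
    obtain ⟨x2, y2, z2⟩ := q
    simp only [f]
    calc al B (ρ B) (E y1) * al A (ρ A) (E x1) * al c e (E z1) *
          (al B (ρ B) (E y2) * al A (ρ A) (E x2) * al c e (E z2))
        = al B (ρ B) (E y1) * (al A (ρ A) (E x1) * (al c e (E z1) *
            al B (ρ B) (E y2))) * al A (ρ A) (E x2) * al c e (E z2) := by group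
      _ = al B (ρ B) (E y1) * (al A (ρ A) (E x1) * al B (ρ B) (E y2)) * (al c e (E z1) *
            al A (ρ A) (E x2)) * al c e (E z2) := by rw [← hcen (hγZ (E z1)) (al B (ρ B) (E y2))]; group
      _ = al B (ρ B) (E y1) * al B (ρ B) (E y2) * al A (ρ A) (E x1) * (al c e (E (x1 * y2)) *
            al A (ρ A) (E x2)) * al c e (E z1) * al c e (E z2) := by
            rw [hK, ← hcen (hγZ (E z1)) (al A (ρ A) (E x2))]; group
      _ = al B (ρ B) (E y1) * al B (ρ B) (E y2) * (al A (ρ A) (E x1) * al A (ρ A) (E x2)) *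
            (al c e (E (x1 * y2)) * (al c e (E z1) * al c e (E z2))) := by
            rw [← hcen (hγZ (E (x1 * y2))) (al A (ρ A) (E x2))]; group
      _ = _ := by rw [hA', hB', hC', hC', show x1 * y2 + (z1 + z2) = z1 + z2 + x1 * y2 by ring]
  have h2' : ∀ r : F, r + r = 0 := fun r => by linear_combination r * h2
  refine ⟨F, inferInstance, inferInstance, hF, equiv_sylow hF hT f ?_ hmul⟩
  have hE0 : E 0 = (0, 0) := by rw [show (0 : F) = co (0, 0) by simp [co], hE]
  have hf0 : f (0, 0, 0) = 1 := by simp [f, hE0, al]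
  have hz_inj : ∀ i, al c e i = 1 → i = (0, 0) := by
    rintro ⟨i1, i2⟩ h
    fin_cases i1 <;> fin_cases i2 <;> simp [al, hAB, he1, hce, hρc1] at h ⊢
  have hker : ∀ p, f p = 1 → p = (0, 0, 0) := by
    rintro ⟨x1, y1, z1⟩ h
    have hcomm : ∀ q, f q * f (x1, y1, z1) = f (x1, y1, z1) * f q := fun q => by rw [h, mul_one, one_mul]
    have hsolve : ∀ u v r : F, u * y1 = x1 * v → u * y1 = x1 * v := fun u v r h => h
    have hd : ∀ u v : F, al c e (E (u * y1 + x1 * v)) = 1 := fun u v => by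
      have h1 := hcomm (u, v, 0)
      rw [hmul, hmul] at h1
      simp only [f] at h1
      rw [add_comm u x1, add_comm v y1] at h1
      have h1' := mul_left_cancel h1
      have h2'' : al c e (E (0 + z1 + u * y1)) * al c e (E (z1 + 0 + x1 * v)) = 1 := by
        rw [h1']; exact hZ2 _ (hγZ _)
      rw [hal c e hcc hee (hcen heZ c), ← hE (_, _), ← hadd, hEs, hEs] at h2''
      rwa [show 0 + z1 + u * y1 + (z1 + 0 + x1 * v) = u * y1 + x1 * v by linear_combination z1 * h2] at h2''
    have h0 : ∀ r : F, al c e (E r) = 1 → r = 0 := fun r hr => by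
      have := hz_inj _ hr
      rw [← hEs r, this]; simp [co]
    have hy : y1 = 0 := by have := h0 _ (hd 1 0); simpa using this
    have hx : x1 = 0 := by have := h0 _ (hd 0 1); simpa using this
    subst hx hy
    have : al c e (E z1) = 1 := by simpa [f, hE0, al] using h
    rw [h0 z1 this]
  intro p q h
  have h1 : f (p.1 + q.1, p.2.1 + q.2.1, p.2.2 + q.2.2 + p.1 * q.2.1) = f q * f q := by rw [← hmul, h]
  rw [hmul] at h1
  have key : ∀ r s, f r = f s → ∀ r', f (r' + 0) = f r' := fun r s _ r' => by rw [add_zero]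
  -- translate to the kernel
  obtain ⟨x2, y2, z2⟩ := q
  obtain ⟨x1, y1, z1⟩ := p
  have hi : f (x1, y1, z1) * f (x2, y2, z2 + x2 * y2) = 1 := by
    rw [h, hmul]
    convert hf0 using 2
    simp only [Prod.mk.injEq]
    exact ⟨h2' _, h2' _, by linear_combination (z2 + x2 * y2) * h2⟩
  rw [hmul] at hi
  have h0 := hker _ hi
  simp only [Prod.mk.injEq] at h0
  obtain ⟨e1, e2, e3⟩ := h0
  have ex : x1 = x2 := by linear_combination e1 - x2 * h2
  have ey : y1 = y2 := by linear_combination e2 - y2 * h2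
  subst ex ey
  have ez : z1 = z2 := by linear_combination e3 - (z2 + x1 * y1) * h2
  rw [ez]

/-- The main theorem. -/
theorem main64 {T : Type u} [Group T] [Finite T] (hT : Nat.card T = 64) (hne : ∃ x y : T, x * y ≠ y * x)
    {ρ : MulAut T} (R : Fpf T ρ) (x : MulAut T) (hx2 : ∀ y, x (x y) = y)
    (hxr : ∀ y, x (ρ y) = ρ (ρ (x y))) (C : Subgroup T) (hC : ∀ y : T, y ∈ C ↔ x y = y) :
    (∃ (F : Type) (_ : Field F) (_ : Fintype F), Fintype.card F = 4 ∧
        ∃ S : Sylow 2 (Matrix.ProjectiveSpecialLinearGroup (Fin 3) F),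
          Nonempty (T ≃* ↥(S : Subgroup (Matrix.ProjectiveSpecialLinearGroup (Fin 3) F)))) ∧
      (Nonempty (↥C ≃* DihedralGroup 4) ∨ Nonempty (↥C ≃* QuaternionGroup 2)) := by
  classical
  haveI : Fact (Nat.Prime 2) := ⟨Nat.prime_two⟩
  obtain ⟨hZ4, hsqZ, hcm, hZ2⟩ := R.structure64 hT hne
  set Z := Subgroup.center T with hZdef
  have hcen : ∀ {z}, z ∈ Z → ∀ t, t * z = z * t := fun hz t => Subgroup.mem_center_iff.1 hz t
  have hinvZ : ∀ (φ : MulAut T), ∀ y ∈ Z, φ y ∈ Z := fun φ y hy => by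
    rw [Subgroup.mem_center_iff] at hy ⊢
    intro t
    obtain ⟨s, rfl⟩ := φ.surjective t
    rw [← map_mul, hy s, map_mul]
  have hinv : ∀ z ∈ Z, z⁻¹ = z := fun z hz => inv_eq_of_mul_eq_one_right (hZ2 z hz)
  have hρρZ : ∀ w ∈ Z, ρ (ρ w) = w * ρ w := fun w hw => by
    rw [R.sq_eq, mul_inv_rev, hinv _ hw, hinv _ (hinvZ ρ w hw), hcen hw]
  -- the fixed point in the centre
  obtain ⟨u, huZ, hu1⟩ : ∃ u ∈ Z, u ≠ 1 := by
    by_contra! h
    have : Z = ⊥ := (Subgroup.eq_bot_iff_forall Z).2 h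
    rw [this, Subgroup.card_bot] at hZ4; omega
  have huρ : ρ u ≠ u := fun h => hu1 (R.fix u h)
  have hρu1 : ρ u ≠ 1 := fun h => hu1 (ρ.injective (h.trans (map_one ρ).symm))
  have huρu : u * ρ u ≠ 1 := fun h => huρ (by
    rw [← inv_eq_of_mul_eq_one_right h, hinv u huZ])
  have hall : ∀ w ∈ Z, w = 1 ∨ w = u ∨ w = ρ u ∨ w = ρ (ρ u) := by
    have hf : Function.Bijective (![1, ⟨u, huZ⟩, ⟨ρ u, hinvZ ρ u huZ⟩,
        ⟨ρ (ρ u), hinvZ ρ _ (hinvZ ρ u huZ)⟩] : Fin 4 → Z) := by
      refine (Nat.bijective_iff_injective_and_card _).2 ⟨fun i j h => ?_, by rw [Nat.card_fin, hZ4]⟩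
      have h1 : ρ (ρ u) ≠ 1 := fun h => hρu1 (ρ.injective (h.trans (map_one ρ).symm))
      have h2 : ρ (ρ u) ≠ ρ u := fun h => huρ (ρ.injective h)
      have h3 : ρ (ρ u) ≠ u := fun h => huρ (by
        have := congrArg ρ h; rw [R.cube] at this; exact this.symm)
      have h' := congrArg (fun t : Z => (t : T)) h
      fin_cases i <;> fin_cases j <;>
        simp [hu1, Ne.symm hu1, huρ, Ne.symm huρ, hρu1, Ne.symm hρu1, h1, Ne.symm h1, h2, Ne.symm h2, h3,
          Ne.symm h3] at h' ⊢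
    intro w hw
    obtain ⟨i, hi⟩ := hf.2 ⟨w, hw⟩
    have hi' := congrArg (fun t : Z => (t : T)) hi
    fin_cases i <;> simp at hi'
    · exact Or.inl hi'.symm
    · exact Or.inr (Or.inl hi'.symm)
    · exact Or.inr (Or.inr (Or.inl hi'.symm))
    · exact Or.inr (Or.inr (Or.inr hi'.symm))
  obtain ⟨z, hzZ, hz1, hzx⟩ : ∃ z ∈ Z, z ≠ 1 ∧ x z = z := by
    rcases hall (x u) (hinvZ x u huZ) with h | h | h | h
    · exact absurd (x.injective (h.trans (map_one x).symm)) hu1
    · exact ⟨u, huZ, hu1, h⟩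
    · refine ⟨u * ρ u, mul_mem huZ (hinvZ ρ u huZ), huρu, ?_⟩
      rw [map_mul, hxr, h, R.cube, hcen huZ]
    · refine ⟨ρ u, hinvZ ρ u huZ, hρu1, ?_⟩
      rw [hxr, h, R.cube]
  have hzρ : ρ z ≠ z := fun h => hz1 (R.fix z h)
  have hρz1 : ρ z ≠ 1 := fun h => hz1 (ρ.injective (h.trans (map_one ρ).symm))
  have hzρz : z * ρ z ≠ 1 := fun h => hzρ (by rw [← inv_eq_of_mul_eq_one_right h, hinv z hzZ])
  have hxρz : x (ρ z) = z * ρ z := by rw [hxr, hzx, hρρZ z hzZ]
  have hZx : ∀ w ∈ Z, x w = w → w = 1 ∨ w = z := by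
    intro w hw hxw
    by_contra! hcon
    -- otherwise everything in the centre is fixed
    have hall' : ∀ v ∈ Z, v = 1 ∨ v = z ∨ v = ρ z ∨ v = z * ρ z := by
      have hf : Function.Bijective (![1, ⟨z, hzZ⟩, ⟨ρ z, hinvZ ρ z hzZ⟩,
          ⟨z * ρ z, mul_mem hzZ (hinvZ ρ z hzZ)⟩] : Fin 4 → Z) := by
        refine (Nat.bijective_iff_injective_and_card _).2 ⟨fun i j h => ?_, by rw [Nat.card_fin, hZ4]⟩
        have h2 : z * ρ z ≠ z := fun h => hρz1 (by simpa using h)
        have h3 : z * ρ z ≠ ρ z := fun h => hz1 (by simpa using h)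
        have h' := congrArg (fun t : Z => (t : T)) h
        fin_cases i <;> fin_cases j <;>
          simp [hz1, Ne.symm hz1, hzρ, Ne.symm hzρ, hρz1, Ne.symm hρz1, hzρz, Ne.symm hzρz] at h' ⊢
      intro v hv
      obtain ⟨i, hi⟩ := hf.2 ⟨v, hv⟩
      have hi' := congrArg (fun t : Z => (t : T)) hi
      fin_cases i <;> simp at hi'
      · exact Or.inl hi'.symm
      · exact Or.inr (Or.inl hi'.symm)
      · exact Or.inr (Or.inr (Or.inl hi'.symm))
      · exact Or.inr (Or.inr (Or.inr hi'.symm))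
    rcases hall' w hw with r | r | r | r
    · exact hcon.1 r
    · exact hcon.2 r
    · rw [r, hxρz] at hxw; exact hz1 (by simpa using hxw)
    · rw [r, map_mul, hzx, hxρz] at hxw
      exact hz1 (by simpa using mul_left_cancel hxw)
  -- fixed lifts
  have hW : Nat.card (T ⧸ Z) = 16 := by
    have := Subgroup.card_eq_card_quotient_mul_card_subgroup Z
    rw [hT, hZ4] at this; omega
  have hCx : ∀ y : T, y⁻¹ * x y ∈ Z → ∃ v ∈ Z, y * v ∈ C := by
    intro y hy
    have hw : x (y⁻¹ * x y) = y⁻¹ * x y := by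
      rw [map_mul, map_inv, hx2]
      calc (x y)⁻¹ * y = (y⁻¹ * x y)⁻¹ := by group
        _ = y⁻¹ * x y := hinv _ hy
    rcases hZx _ hy hw with h | h
    · exact ⟨1, one_mem _, (hC _).2 (by rw [mul_one]; exact (inv_mul_eq_one.1 h).symm)⟩
    · refine ⟨ρ z, hinvZ ρ z hzZ, (hC _).2 ?_⟩
      rw [map_mul, hxρz, show x y = y * z by rw [← h, mul_inv_cancel_left], mul_assoc y z, ← mul_assoc z z,
        hZ2 z hzZ, one_mul]
  -- the map to fixed cosets
  have hnorm : ∀ y : T, (y * x y)⁻¹ * x (y * x y) ∈ Z := fun y => by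
    rw [map_mul, hx2, show (y * x y)⁻¹ * (x y * y) = ⁅(x y)⁻¹, y⁻¹⁆ by simp only [commutatorElement_def]; group]
    exact hcm _ _
  obtain ⟨a, haC, haZ⟩ : ∃ a ∈ C, a ∉ Z := by
    by_contra! hcon
    have hfix : ∀ y, y⁻¹ * x y ∈ Z → y ∈ Z := fun y hy => by
      obtain ⟨v, hv, hyv⟩ := hCx y hy
      have := mul_mem (hcon _ hyv) (inv_mem hv)
      rwa [mul_inv_cancel_right] at this
    obtain ⟨y, hy⟩ : ∃ y, y ∉ Z := by
      by_contra! h
      obtain ⟨p, q, hpq⟩ := hne
      exact hpq (hcen (h q) p)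
    have h1 := hfix _ (hnorm y)
    refine hy (hfix y ?_)
    have := mul_mem (hsqZ y⁻¹) h1
    rwa [show y⁻¹ * y⁻¹ * (y * x y) = y⁻¹ * x y by group] at this
  have hxa : x a = a := (hC a).1 haC
  have ha1 : (a : T ⧸ Z) ≠ 1 := fun h => haZ ((QuotientGroup.eq_one_iff a).1 h)
  -- the line through `a`
  let L : Subgroup T :=
    { carrier := {y | (y : T ⧸ Z) = 1 ∨ (y : T ⧸ Z) = a ∨ (y : T ⧸ Z) = (ρ a : T) ∨ (y : T ⧸ Z) = (a * ρ a : T)}
      one_mem' := Or.inl rfl
      mul_mem' := fun {p q} hp hq => by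
        have h2 : ∀ t : T ⧸ Z, t * t = 1 := fun t => QuotientGroup.induction_on t fun t =>
          (QuotientGroup.eq_one_iff (t * t)).2 (hsqZ t)
        have hc : ∀ s t : T ⧸ Z, s * t = t * s := fun s t => QuotientGroup.induction_on s fun s =>
          QuotientGroup.induction_on t fun t => commutatorElement_eq_one_iff_mul_comm.1
            ((QuotientGroup.eq_one_iff ⁅s, t⁆).2 (hcm s t))
        have h3 : ∀ s t : T ⧸ Z, s * (s * t) = t := fun s t => by rw [← mul_assoc, h2, one_mul]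
        have h4 : ∀ s t : T ⧸ Z, s * (t * s) = t := fun s t => by rw [hc t s, h3]
        show ((p * q : T) : T ⧸ Z) = 1 ∨ _
        rw [QuotientGroup.mk_mul]
        rcases hp with hp | hp | hp | hp <;> rcases hq with hq | hq | hq | hq <;> rw [hp, hq] <;>
          simp [QuotientGroup.mk_mul, h2, h3, h4, mul_assoc, hc (ρ a : T) a]
      inv_mem' := fun {p} hp => by
        have : ((p⁻¹ : T) : T ⧸ Z) = p := by
          rw [QuotientGroup.mk_inv]
          exact inv_eq_of_mul_eq_one_right ((QuotientGroup.eq_one_iff (p * p)).2 (hsqZ p))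
        show ((p⁻¹ : T) : T ⧸ Z) = 1 ∨ _
        rw [this]; exact hp }
  have hfixL : ∀ y ∈ L, y ∈ C → (y : T ⧸ Z) = 1 ∨ (y : T ⧸ Z) = a := by
    intro y hy hyC
    have hxy : x y = y := (hC y).1 hyC
    have key : ∀ p : T, (y : T ⧸ Z) = (p : T) → ((x p : T) : T ⧸ Z) = (p : T) := fun p h => by
      have h1 := hinvZ x _ (QuotientGroup.eq.1 h)
      rw [map_mul, map_inv, hxy] at h1
      rw [← h]; exact (QuotientGroup.eq.2 h1).symm
    have hρρa : ((ρ (ρ a) : T) : T ⧸ Z) = (a * ρ a : T) := by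
      rw [R.sq_eq, QuotientGroup.mk_inv]
      exact inv_eq_of_mul_eq_one_right ((QuotientGroup.eq_one_iff _).2 (hsqZ _))
    rcases hy with h | h | h | h
    · exact Or.inl h
    · exact Or.inr h
    · exfalso
      have h1 := key _ h
      rw [hxr, hxa, hρρa, QuotientGroup.mk_mul] at h1
      exact ha1 (mul_right_cancel (h1.trans (one_mul _).symm))
    · exfalso
      have h1 := key _ h
      rw [map_mul, hxa, hxr, hxa, QuotientGroup.mk_mul, hρρa, QuotientGroup.mk_mul] at h1
      exact ha1 (mul_right_cancel ((mul_left_cancel h1).trans (one_mul _).symm))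
  have hLZ : Z ≤ L := fun w hw => Or.inl ((QuotientGroup.eq_one_iff w).2 hw)
  have haL : a ∈ L := Or.inr (Or.inl rfl)
  have hρaL : ρ a ∈ L := Or.inr (Or.inr (Or.inl rfl))
  have hLne : L ≠ ⊤ := fun h => by
    have := Nat.card_le_card_of_surjective
      (![1, (a : T ⧸ Z), ((ρ a : T) : T ⧸ Z), ((a * ρ a : T) : T ⧸ Z)] : Fin 4 → T ⧸ Z) fun w => by
        induction w using QuotientGroup.induction_on with
        | _ y =>
          rcases (h ▸ Subgroup.mem_top y : y ∈ L) with r | r | r | r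
          · exact ⟨0, r.symm⟩
          · exact ⟨1, r.symm⟩
          · exact ⟨2, r.symm⟩
          · exact ⟨3, r.symm⟩
    rw [hW, Nat.card_fin] at this; omega
  obtain ⟨b, hbC, hbL⟩ : ∃ b ∈ C, b ∉ L := by
    by_contra! hcon
    have hfix : ∀ y, y⁻¹ * x y ∈ Z → y ∈ L := fun y hy => by
      obtain ⟨v, hv, hyv⟩ := hCx y hy
      have := mul_mem (hcon _ hyv) (inv_mem (hLZ hv))
      rwa [mul_inv_cancel_right] at this
    refine hLne (eq_top_iff.2 fun y _ => ?_)
    -- `y * x y` lies in the coset of `1` or `a`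
    have h1 := hfix _ (hnorm y)
    obtain ⟨v, hv, hyv⟩ := hCx _ (hnorm y)
    rcases hfixL _ (mul_mem h1 (hLZ hv)) hyv with h | h
    · refine hfix y ?_
      have h' : y * x y ∈ Z := by
        have := mul_mem ((QuotientGroup.eq_one_iff _).1 h) (inv_mem hv)
        rwa [mul_inv_cancel_right] at this
      have := mul_mem (hsqZ y⁻¹) h'
      rwa [show y⁻¹ * y⁻¹ * (y * x y) = y⁻¹ * x y by group] at this
    · -- multiply by an element of the line with the same norm
      have hρa : (ρ a * x (ρ a))⁻¹ * a ∈ Z := by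
        rw [hxr, hxa, R.sq_eq, show (ρ a * (a * ρ a)⁻¹)⁻¹ * a = a * ρ a * (ρ a)⁻¹ * a by group,
          mul_inv_cancel_right]
        exact hsqZ a
      have hc : ∀ s t : T ⧸ Z, s * t = t * s := fun s t => QuotientGroup.induction_on s fun s =>
          QuotientGroup.induction_on t fun t => commutatorElement_eq_one_iff_mul_comm.1
            ((QuotientGroup.eq_one_iff ⁅s, t⁆).2 (hcm s t))
      have hz0 : (y * ρ a) * x (y * ρ a) ∈ Z := by
        rw [← QuotientGroup.eq_one_iff, map_mul, QuotientGroup.mk_mul, QuotientGroup.mk_mul, QuotientGroup.mk_mul]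
        have e1 : ((y : T) : T ⧸ Z) * (x y : T) = a := by
          rw [← QuotientGroup.mk_mul, ← h]
          refine QuotientGroup.eq.2 ?_
          rw [inv_mul_cancel_left]; exact hv
        have e2 : ((ρ a : T) : T ⧸ Z) * (x (ρ a) : T) = a := by
          rw [← QuotientGroup.mk_mul]; exact QuotientGroup.eq.2 hρa
        calc (y : T ⧸ Z) * (ρ a : T) * (((x y : T) : T ⧸ Z) * (x (ρ a) : T))
            = ((y : T ⧸ Z) * (x y : T)) * (((ρ a : T) : T ⧸ Z) * (x (ρ a) : T)) := by
              rw [mul_assoc (y : T ⧸ Z), ← mul_assoc ((ρ a : T) : T ⧸ Z), hc (ρ a : T) (x y : T),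
                mul_assoc (x y : T ⧸ Z), ← mul_assoc (y : T ⧸ Z)]
          _ = 1 := by rw [e1, e2]; exact (QuotientGroup.eq_one_iff (a * a)).2 (hsqZ a)
      have hd : (y * ρ a)⁻¹ * x (y * ρ a) ∈ Z := by
        have := mul_mem (hsqZ (y * ρ a)⁻¹) hz0
        rwa [show (y * ρ a)⁻¹ * (y * ρ a)⁻¹ * (y * ρ a * x (y * ρ a)) = (y * ρ a)⁻¹ * x (y * ρ a) by group] at this
      have := mul_mem (hfix _ hd) (inv_mem hρaL)
      rwa [mul_inv_cancel_right] at this
  have hxb : x b = b := (hC b).1 hbC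
  -- commutator of `a` and `b`
  have hgen : ∀ U : Subgroup T, Z ≤ U → a ∈ U → ρ a ∈ U → b ∈ U → ρ b ∈ U → U = ⊤ := by
    intro U hZU haU hρaU hbU hρbU
    let U' := Subgroup.closure ((Z : Set T) ∪ {a, ρ a, b, ρ b})
    have hle : U' ≤ U := (Subgroup.closure_le _).2 (by
      rintro s (hs | rfl | rfl | rfl | rfl) <;> [exact hZU hs; assumption; assumption; assumption; assumption])
    have hm : ∀ s ∈ ((Z : Set T) ∪ {a, ρ a, b, ρ b}), s ∈ U' := fun s hs => Subgroup.subset_closure hs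
    have hinv' : ∀ y ∈ U', ρ y ∈ U' := fun y hy => by
      have h' : U' ≤ U'.comap ρ.toMonoidHom := (Subgroup.closure_le _).2 (by
        rintro s (hs | rfl | rfl | rfl | rfl)
        · exact hm _ (Or.inl (hinvZ ρ s hs))
        · exact hm _ (by simp)
        · show ρ (ρ a) ∈ U'
          rw [R.sq_eq]; exact inv_mem (mul_mem (hm _ (by simp)) (hm _ (by simp)))
        · exact hm _ (by simp)
        · show ρ (ρ b) ∈ U'
          rw [R.sq_eq]; exact inv_mem (mul_mem (hm _ (by simp)) (hm _ (by simp))))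
      exact h' hy
    have hLU : L ≤ U' := by
      intro y hy
      have key : ∀ p ∈ U', (y : T ⧸ Z) = (p : T) → y ∈ U' := fun p hp h => by
        have := mul_mem hp (hm _ (Or.inl (QuotientGroup.eq.1 h.symm)))
        rwa [mul_inv_cancel_left] at this
      rcases hy with h | h | h | h
      · exact hm _ (Or.inl ((QuotientGroup.eq_one_iff y).1 h))
      · exact key _ (hm _ (by simp)) h
      · exact key _ (hm _ (by simp)) h
      · exact key _ (mul_mem (hm _ (by simp)) (hm _ (by simp))) h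
    have hL16 : 16 ≤ Nat.card L := by
      let g : Fin 4 × Z → L := fun p => ⟨![1, a, ρ a, a * ρ a] p.1 * p.2, mul_mem (by
        obtain ⟨i, w⟩ := p
        fin_cases i
        · exact one_mem L
        · exact haL
        · exact hρaL
        · exact mul_mem haL hρaL) (hLZ p.2.2)⟩
      have hg : Function.Injective g := by
        rintro ⟨i, v⟩ ⟨j, w⟩ h
        have h' : (![1, a, ρ a, a * ρ a] i : T) * v = ![1, a, ρ a, a * ρ a] j * w := congrArg Subtype.val h
        have hq : ((![1, a, ρ a, a * ρ a] i : T) : T ⧸ Z) = (![1, a, ρ a, a * ρ a] j : T) := by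
          refine QuotientGroup.eq.2 ?_
          rw [show (![1, a, ρ a, a * ρ a] i : T)⁻¹ * ![1, a, ρ a, a * ρ a] j = v * (w : T)⁻¹ by
            rw [← mul_inv_cancel_right (![1, a, ρ a, a * ρ a] j) (w : T), ← h']; group]
          exact mul_mem v.2 (inv_mem w.2)
        have hρa1 : ((ρ a : T) : T ⧸ Z) ≠ 1 := fun h => haZ (by
          have := hinvZ ρ _ (hinvZ ρ _ ((QuotientGroup.eq_one_iff _).1 h)); rwa [R.cube] at this)
        have hρaa : ((ρ a : T) : T ⧸ Z) ≠ a := fun h => haZ (R.mem_of_diff (hinvZ ρ) (QuotientGroup.eq.1 h.symm)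
          fun n hn t => hcen hn t)
        have hsum : ((a * ρ a : T) : T ⧸ Z) ≠ 1 := fun h => hρaa (by
          rw [QuotientGroup.mk_mul] at h
          rw [eq_inv_of_mul_eq_one_right h]
          exact inv_eq_of_mul_eq_one_right ((QuotientGroup.eq_one_iff (a * a)).2 (hsqZ a)))
        have hij : i = j := by
          rw [QuotientGroup.mk_mul] at hsum
          fin_cases i <;> fin_cases j <;>
            simp [QuotientGroup.mk_mul, ha1, Ne.symm ha1, hρa1, Ne.symm hρa1, hρaa, Ne.symm hρaa, hsum,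
              Ne.symm hsum] at hq ⊢
        subst hij
        exact Prod.ext rfl (Subtype.ext (mul_left_cancel h'))
      have := Nat.card_le_card_of_injective g hg
      rwa [Nat.card_prod, Nat.card_fin, hZ4] at this
    have hlt : Nat.card L < Nat.card U' := (Subgroup.card_le_of_le hLU).lt_of_ne fun e =>
      hbL ((Subgroup.eq_of_le_of_card_ge hLU e.ge).ge (hm _ (by simp)))
    have h64 : Nat.card U' = 64 := by
      obtain ⟨k, hk, hk'⟩ := (Nat.dvd_prime_pow Nat.prime_two).1
        (show Nat.card U' ∣ 2 ^ 6 by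
          rw [show (2 : ℕ) ^ 6 = Nat.card T by rw [hT]; norm_num]; exact U'.card_subgroup_dvd_card)
      have := R.card_mod U' hinv'
      rw [hk'] at this hlt ⊢
      interval_cases k <;> omega
    rw [eq_top_iff, ← Subgroup.eq_top_of_card_eq U' (h64.trans hT.symm)]
    exact hle
  obtain ⟨hPab1, hPab2, hPab3⟩ := R.pair hcm hZ2 a b
  have hab : ⁅a, b⁆ = z := by
    have hcx : x ⁅a, b⁆ = ⁅a, b⁆ := by rw [map_commutatorElement, hxa, hxb]
    refine (hZx _ (hcm a b) hcx).resolve_left fun h => haZ ?_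
    have hcom : ∀ t : T, t ∈ Subgroup.centralizer ({a} : Set T) ↔ t * a = a * t := fun t =>
      Subgroup.mem_centralizer_singleton_iff
    have htop := hgen (Subgroup.centralizer ({a} : Set T))
      (fun w hw => (hcom w).2 (hcen hw a).symm) ((hcom a).2 rfl) ((hcom _).2 (R.comm a).symm)
      ((hcom b).2 (commutatorElement_eq_one_iff_mul_comm.1 h).symm)
      ((hcom _).2 (commutatorElement_eq_one_iff_mul_comm.1 (by rw [hPab2, h, map_one, mul_one])).symm)
    rw [Subgroup.mem_center_iff]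
    exact fun t => (hcom t).1 (htop ▸ Subgroup.mem_top t)
  have hne' : ∃ p q : C, p * q ≠ q * p := ⟨⟨a, haC⟩, ⟨b, hbC⟩, fun h => hz1 (by
    rw [← hab]; exact commutatorElement_eq_one_iff_mul_comm.2 (congrArg Subtype.val h))⟩
  -- the order of the fixed subgroup
  have hsqfix : ∀ y ∈ C, y * y = 1 ∨ y * y = z := fun y hy =>
    hZx _ (hsqZ y) (by rw [map_mul, (hC y).1 hy])
  have habb : (a * b) * (a * b) = a * a * (b * b) * z := by
    have hba : b * a = a * b * z := by
      have : ⁅b⁻¹, a⁻¹⁆ = z := by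
        rw [show ⁅b⁻¹, a⁻¹⁆ = (b * a)⁻¹ * ⁅b, a⁆ * (b * a) by simp only [commutatorElement_def]; group,
          ← commutatorElement_inv, hab, hinv z hzZ, mul_assoc, ← hcen hzZ (b * a), inv_mul_cancel_left]
      rw [show b * a = a * b * ⁅b⁻¹, a⁻¹⁆ by simp only [commutatorElement_def]; group, this]
    calc a * b * (a * b) = a * (b * a) * b := by group
      _ = a * (a * b * z) * b := by rw [hba]
      _ = a * a * b * (z * b) := by group
      _ = a * a * b * (b * z) := by rw [hcen hzZ b]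
      _ = _ := by group
  have hbr : ∀ p q r : T, ⁅p, q * r⁆ = ⁅p, q⁆ * ⁅p, r⁆ := fun p q r => by
    calc ⁅p, q * r⁆ = ⁅p, q⁆ * (q * ⁅p, r⁆ * q⁻¹) := by simp only [commutatorElement_def]; group
      _ = _ := by rw [hcen (hcm p r) q, mul_inv_cancel_right]
  have hsymc : ∀ p q : T, ⁅q, p⁆ = ⁅p, q⁆ := fun p q => by rw [← commutatorElement_inv, hinv _ (hcm p q)]
  have hC8 : Nat.card C = 8 := by
    have hzC : z ∈ C := (hC z).2 hzx
    have hcent : ∀ y ∈ C, ⁅a, y⁆ = 1 → ⁅b, y⁆ = 1 → y = 1 ∨ y = z := by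
      intro y hy h1 h2
      refine hZx y ?_ ((hC y).1 hy)
      have hcom : ∀ t : T, t ∈ Subgroup.centralizer ({y} : Set T) ↔ t * y = y * t := fun t =>
        Subgroup.mem_centralizer_singleton_iff
      have htop := hgen (Subgroup.centralizer ({y} : Set T))
        (fun w hw => (hcom w).2 (hcen hw y).symm)
        ((hcom a).2 (commutatorElement_eq_one_iff_mul_comm.1 h1))
        ((hcom _).2 (commutatorElement_eq_one_iff_mul_comm.1 (by rw [(R.pair hcm hZ2 a y).2.2, h1, map_one, mul_one])))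
        ((hcom b).2 (commutatorElement_eq_one_iff_mul_comm.1 h2))
        ((hcom _).2 (commutatorElement_eq_one_iff_mul_comm.1 (by rw [(R.pair hcm hZ2 b y).2.2, h2, map_one, mul_one])))
      rw [Subgroup.mem_center_iff]
      exact fun t => (hcom t).1 (htop ▸ Subgroup.mem_top t)
    have hsurj : ∀ y : C, ∃ i : Fin 2 × Fin 2 × Fin 2, (y : T) = z ^ i.1.1 * (a ^ i.2.1.1 * b ^ i.2.2.1) := by
      intro y
      have hya : ∀ w ∈ C, ⁅a, w⁆ = 1 ∨ ⁅a, w⁆ = z := fun w hw =>
        hZx _ (hcm a w) (by rw [map_commutatorElement, hxa, (hC w).1 hw])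
      have hyb : ∀ w ∈ C, ⁅b, w⁆ = 1 ∨ ⁅b, w⁆ = z := fun w hw =>
        hZx _ (hcm b w) (by rw [map_commutatorElement, hxb, (hC w).1 hw])
      have haa : ⁅a, a⁆ = 1 := commutatorElement_self a
      have hbb : ⁅b, b⁆ = 1 := commutatorElement_self b
      have hba : ⁅b, a⁆ = z := by rw [hsymc, hab]
      have hzz := hZ2 z hzZ
      have hfin : ∀ (i j : Fin 2), ⁅a, (y : T)⁆ = z ^ j.1 → ⁅b, (y : T)⁆ = z ^ i.1 →
          ∃ k : Fin 2, (y : T) = z ^ k.1 * (a ^ i.1 * b ^ j.1) := by
        intro i j h1 h2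
        have hpa : ∀ (w : T) (n : Fin 2), ⁅w, a ^ n.1⁆ = ⁅w, a⁆ ^ n.1 := fun w n => by
          fin_cases n <;> simp
        have hpb : ∀ (w : T) (n : Fin 2), ⁅w, b ^ n.1⁆ = ⁅w, b⁆ ^ n.1 := fun w n => by
          fin_cases n <;> simp
        set p := a ^ i.1 * b ^ j.1 with hp
        have hpC : p ∈ C := mul_mem (pow_mem haC _) (pow_mem hbC _)
        have hpa1 : ⁅a, p⁆ = z ^ j.1 := by rw [hp, hbr, hpa, hpb, haa, hab, one_pow, one_mul]
        have hpb1 : ⁅b, p⁆ = z ^ i.1 := by rw [hp, hbr, hpa, hpb, hba, hbb, one_pow, mul_one]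
        have hzp : ∀ n : ℕ, z ^ n * z ^ n = 1 := fun n => by rw [← (Commute.refl z).mul_pow, hzz, one_pow]
        rcases hcent ((y : T) * p) (mul_mem y.2 hpC) (by rw [hbr, h1, hpa1, hzp]) (by rw [hbr, h2, hpb1, hzp]) with r | r
        · rcases hsqfix p hpC with q | q
          · exact ⟨0, by rw [eq_inv_of_mul_eq_one_left r, inv_eq_of_mul_eq_one_right q]; simp⟩
          · refine ⟨1, ?_⟩
            rw [eq_inv_of_mul_eq_one_left r, Fin.val_one, pow_one]
            apply inv_eq_of_mul_eq_one_right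
            rw [← mul_assoc, hcen hzZ p, mul_assoc, q, hzz]
        · rcases hsqfix p hpC with q | q
          · exact ⟨1, by rw [Fin.val_one, pow_one, ← r, mul_assoc, q, mul_one]⟩
          · refine ⟨0, ?_⟩
            rw [Fin.val_zero, pow_zero, one_mul]
            exact mul_right_cancel (r.trans q.symm)
      obtain ⟨j, hj⟩ : ∃ j : Fin 2, ⁅a, (y : T)⁆ = z ^ j.1 := by
        rcases hya y y.2 with h | h
        · exact ⟨0, by simp [h]⟩
        · exact ⟨1, by simp [h]⟩
      obtain ⟨i, hi⟩ : ∃ i : Fin 2, ⁅b, (y : T)⁆ = z ^ i.1 := by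
        rcases hyb y y.2 with h | h
        · exact ⟨0, by simp [h]⟩
        · exact ⟨1, by simp [h]⟩
      obtain ⟨k, hk⟩ := hfin i j hj hi
      exact ⟨(k, i, j), hk⟩
    have hle : Nat.card C ≤ 8 := by
      have := Nat.card_le_card_of_surjective (fun i : Fin 2 × Fin 2 × Fin 2 =>
        (⟨z ^ i.1.1 * (a ^ i.2.1.1 * b ^ i.2.2.1),
          mul_mem (pow_mem hzC _) (mul_mem (pow_mem haC _) (pow_mem hbC _))⟩ : C)) fun y => by
        obtain ⟨i, hi⟩ := hsurj y
        exact ⟨i, Subtype.ext hi.symm⟩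
      simpa using this
    obtain ⟨k, hk, hk'⟩ := (Nat.dvd_prime_pow Nat.prime_two).1
      (show Nat.card C ∣ 2 ^ 6 by rw [show (2 : ℕ) ^ 6 = Nat.card T by rw [hT]; norm_num]; exact C.card_subgroup_dvd_card)
    by_contra h8
    have hk3 : k ≤ 2 := by
      by_contra hk4
      have h3 : 2 ^ 3 ≤ 2 ^ k := Nat.pow_le_pow_right (by norm_num) (by omega)
      omega
    obtain ⟨p, q, hpq⟩ := hne'
    apply hpq
    interval_cases k
    · haveI := (Nat.card_eq_one_iff_unique.1 hk').1
      exact Subsingleton.elim _ _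
    · haveI : IsCyclic C := isCyclic_of_prime_card (p := 2) (by simpa using hk')
      letI := IsCyclic.commGroup (α := C)
      exact mul_comm p q
    · exact (IsPGroup.isMulCommutative_of_card_eq_prime_sq hk').is_comm.comm p q
  refine ⟨?_, eight hC8 hne'⟩
  -- involutions generating
  have ha2 := hsqfix a haC
  have hb2 := hsqfix b hbC
  obtain ⟨A, B, hA, hB, hAB⟩ : ∃ A B : T, A * A = 1 ∧ B * B = 1 ∧ ⁅A, B⁆ ≠ 1 := by
    rcases ha2 with h1 | h1 <;> rcases hb2 with h2 | h2
    · exact ⟨a, b, h1, h2, by rw [hab]; exact hz1⟩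
    · exact ⟨a, a * b, h1, by rw [habb, h1, h2, one_mul, hZ2 z hzZ],
        by rw [hbr, commutatorElement_self, one_mul, hab]; exact hz1⟩
    · exact ⟨a * b, b, by rw [habb, h1, h2, mul_one, hZ2 z hzZ], h2,
        by rw [hsymc, hbr, commutatorElement_self, mul_one, hsymc, hab]; exact hz1⟩
    · have hsqmul : ∀ p q : T, (p * q) * (p * q) = p * p * (q * q) * ⁅p, q⁆ := fun p q => by
        have e : q * p = p * q * ⁅p, q⁆ := by
          have : ⁅q⁻¹, p⁻¹⁆ = ⁅p, q⁆ := by
            rw [show ⁅q⁻¹, p⁻¹⁆ = (q * p)⁻¹ * ⁅q, p⁆ * (q * p) by simp only [commutatorElement_def]; group,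
              hsymc, mul_assoc, ← hcen (hcm p q) (q * p), inv_mul_cancel_left]
          rw [← this]; simp only [commutatorElement_def]; group
        calc p * q * (p * q) = p * (q * p) * q := by group
          _ = p * (p * q * ⁅p, q⁆) * q := by rw [e]
          _ = p * p * q * (⁅p, q⁆ * q) := by group
          _ = p * p * q * (q * ⁅p, q⁆) := by rw [hcen (hcm p q) q]
          _ = _ := by group
      have hba : ⁅b, ρ a⁆ = z * ρ z := by rw [(R.pair hcm hZ2 b a).2.1, hsymc, hab]
      have hzz := hZ2 z hzZ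
      have hρzz := hZ2 _ (hinvZ ρ z hzZ)
      have hone : z * ρ z * (z * ρ z) = 1 := hZ2 _ (mul_mem hzZ (hinvZ ρ z hzZ))
      refine ⟨a * ρ b, b * ρ a, ?_, ?_, ?_⟩
      · rw [hsqmul, hPab2, hab, h1, ← map_mul ρ b b, h2, hone]
      · rw [hsqmul, hba, h2, ← map_mul ρ a a, h1, hone]
      · have hbl : ∀ p q r : T, ⁅p * q, r⁆ = ⁅p, r⁆ * ⁅q, r⁆ := fun p q r => by
          rw [hsymc, hbr, hsymc p r, hsymc q r]
        rw [hbl, hbr, hbr, hab, commutatorElement_eq_one_iff_mul_comm.2 (R.comm a), mul_one,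
          hsymc b (ρ b), commutatorElement_eq_one_iff_mul_comm.2 (R.comm b), one_mul,
          hsymc (ρ a) (ρ b), hPab1, hab]
        exact hzρz
  exact param hT hne R hA hB hAB

end Cfsg.Agent.Lib.FpfThree
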