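import Cfsg.Agent.Lib.FpfThree.Central
import Cfsg.Agent.Lib.U3Sylow.Basic

/-!
The Sylow 2-subgroup of `PSU(3,4)` is the group of order 64 with central involutions only.
-/

set_option autoImplicit false

namespace Cfsg.Agent.Lib.FpfThree

universe u v

theorem u3_iso {T : Type u} [Group T] [Finite T] (hT : Nat.card T = 64) (hne : ∃ a b : T, a * b ≠ b * a)
    {σ : MulAut T} (R : Fpf T σ) (honly : ∀ y : T, y * y = 1 → y ∈ Subgroup.center T)
    {F : Type v} [Field F] [Fintype F] (hF : Fintype.card F = 16) (P : Sylow 2 (Cfsg.PSU 3 F 4)) :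
    Nonempty (T ≃* ↥(P : Subgroup (Cfsg.PSU 3 F 4))) := by
  classical
  obtain ⟨g, E, hg⟩ := exists_gens hT hne R honly
  have hF' : Fintype.card F = 4 ^ 2 := by rw [hF]; norm_num
  haveI := U3Sylow.charTwo (n := 2) (F := F) (by rw [hF]; norm_num)
  obtain ⟨H⟩ := U3Sylow.exists_shape_sylow hF' ⟨2, rfl⟩ P
  haveI := H.finite hF'
  have hP64 : Nat.card P = 64 := by rw [H.card_eq hF']; norm_num
  -- a primitive cube root of unity
  haveI : Fact (Nat.Prime 3) := ⟨Nat.prime_three⟩
  obtain ⟨l, hl⟩ := exists_prime_orderOf_dvd_card' (G := Fˣ) 3 (by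
    rw [Nat.card_units, Nat.card_eq_fintype_card, hF]; norm_num)
  have hl3 : (l : F) ^ 3 = 1 := by
    rw [← Units.val_pow_eq_pow_val, orderOf_dvd_iff_pow_eq_one.1 hl.dvd, Units.val_one]
  have hl1 : (l : F) ≠ 1 := fun h => by
    rw [Units.val_eq_one.1 h, orderOf_one] at hl; omega
  have hl4 : (l : F) ^ 4 = l := by rw [pow_succ, hl3, one_mul]
  set φ := H.scale hF' (l : F) hl4 l.ne_zero with hφ
  have hfs : ∀ y, H.fs (φ y) = l * H.fs y := fun y => by
    simp [hφ, U3Sylow.Shape.scale, U3Sylow.Shape.fs]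
  have hsn : ∀ y, H.sn (φ y) = l * l * H.sn y := fun y => by
    simp [hφ, U3Sylow.Shape.scale, U3Sylow.Shape.sn]
  have R' : Fpf P φ := by
    refine ⟨fun y => H.ext ?_ ?_, fun y hy => ?_⟩
    · rw [hfs, hfs, hfs]; linear_combination (H.fs y) * hl3
    · rw [hsn, hsn, hsn]; linear_combination (H.sn y) * ((l : F) ^ 3 + 1) * hl3
    · have h1 := congrArg H.fs hy
      have h2 := congrArg H.sn hy
      rw [hfs] at h1
      rw [hsn] at h2
      have hll : (l : F) * l ≠ 1 := fun h => hl1 (by
        have : (l : F) ^ 3 = l := by rw [pow_succ, pow_two, h, one_mul]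
        rw [← this, hl3])
      refine H.ext ?_ ?_
      · rw [H.fs_one]
        exact (mul_eq_zero.1 (show ((l : F) - 1) * H.fs y = 0 by linear_combination h1)).resolve_left
          (sub_ne_zero.2 hl1)
      · rw [H.sn_one hF']
        exact (mul_eq_zero.1 (show ((l : F) * l - 1) * H.sn y = 0 by linear_combination h2)).resolve_left
          (sub_ne_zero.2 hll)
  have hne' : ∃ a b : P, a * b ≠ b * a := by
    by_contra! h
    have htop : Subgroup.center P = ⊤ := eq_top_iff.2 fun z _ => Subgroup.mem_center_iff.2 fun w => h w z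
    have hc := H.card_center hF'
    rw [htop, Subgroup.card_top, hP64] at hc
    omega
  have honly' : ∀ y : P, y * y = 1 → y ∈ Subgroup.center P := fun y hy =>
    (H.mem_center hF').2 ((H.sq_eq_one hF').1 hy)
  obtain ⟨g', E', hg'⟩ := exists_gens hP64 hne' R' honly'
  exact gens_iso hg hT hg' hP64

end Cfsg.Agent.Lib.FpfThree
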